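import Groth.Agent.SymAlg.PullBC
import Mathlib.Algebra.Category.ModuleCat.Descent
import Mathlib.AlgebraicGeometry.Morphisms.Flat
import Groth.Agent.QC.Pullback

/-!
Sections of a module over an open as a module over a ring mapping to the functions, and their
comparison with sections of pullbacks.
-/

set_option autoImplicit false
set_option backward.isDefEq.respectTransparency false
set_option backward.isDefEq.respectTransparency.types false
set_option linter.style.haveILetI false

universe u

open CategoryTheory CategoryTheory.Limits AlgebraicGeometry TopologicalSpace Opposite TensorProduct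

namespace Groth.Agent.FlatBCD

variable {X X' : Scheme.{u}} {A B : Type u} [CommRing A] [CommRing B]

/-- sections over `U` as `A`-modules -/
noncomputable def secF (U : X.Opens) (ρ : A →+* Γ(X, U)) : X.Modules ⥤ ModuleCat.{u} A :=
  SheafOfModules.evaluation X.ringCatSheaf (op U) ⋙ ModuleCat.restrictScalars.{u, u, u} ρ

instance (U : X.Opens) (ρ : A →+* Γ(X, U)) : PreservesFiniteLimits (secF U ρ) := by
  haveI h1 : PreservesFiniteLimits (SheafOfModules.evaluation.{u} X.ringCatSheaf (op U)) := inferInstance
  haveI h2 : PreservesFiniteLimits (ModuleCat.restrictScalars.{u, u, u} ρ) := inferInstance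
  exact comp_preservesFiniteLimits _ _

instance (U : X.Opens) (ρ : A →+* Γ(X, U)) : (secF U ρ).Additive :=
  Functor.additive_of_preserves_binary_products _

lemma secF_map_apply (U : X.Opens) (ρ : A →+* Γ(X, U)) {M N : X.Modules} (a : M ⟶ N) (m : Γ(M, U)) :
    (secF U ρ).map a m = a.app U m := rfl

variable (g : X' ⟶ X) {U : X.Opens} {U' : X'.Opens} (hU : U' ≤ g ⁻¹ᵁ U)
  {ρ : A →+* Γ(X, U)} {ρ' : B →+* Γ(X', U')} {φ : A →+* B} (hρ : (g.appLE U U' hU).hom.comp ρ = ρ'.comp φ)

/-- pulling back sections, over `φ` -/
noncomputable def nu (M : X.Modules) : (secF U ρ).obj M ⟶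
    (ModuleCat.restrictScalars.{u, u, u} φ).obj ((secF U' ρ').obj ((Scheme.Modules.pullback g).obj M)) :=
  ModuleCat.ofHom (X := (secF U ρ).obj M)
    (Y := (ModuleCat.restrictScalars.{u, u, u} φ).obj ((secF U' ρ').obj ((Scheme.Modules.pullback g).obj M)))
    { toFun := fun m => RelTilde.resθ g ((Scheme.Modules.pullbackPushforwardAdjunction g).unit.app M) hU m
      map_add' := fun a b => map_add (RelTilde.resθ g ((Scheme.Modules.pullbackPushforwardAdjunction g).unit.app M) hU) a b
      map_smul' := fun r m => by
        refine ((RelTilde.resθ g ((Scheme.Modules.pullbackPushforwardAdjunction g).unit.app M) hU).map_smulₛₗ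
          (ρ r) (show Γ(M, U) from m)).trans ?_
        exact congrArg (fun c : Γ(X', U') => c • RelTilde.resθ g
          ((Scheme.Modules.pullbackPushforwardAdjunction g).unit.app M) hU (show Γ(M, U) from m))
          (RingHom.congr_fun hρ r) }

lemma nu_naturality {M N : X.Modules} (a : M ⟶ N) :
    (secF U ρ).map a ≫ nu g hU hρ N = nu g hU hρ M ≫
      (ModuleCat.restrictScalars.{u, u, u} φ).map ((secF U' ρ').map ((Scheme.Modules.pullback g).map a)) := by
  refine ModuleCat.hom_ext (LinearMap.ext fun m => ?_)
  let η := (Scheme.Modules.pullbackPushforwardAdjunction g).unit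
  have h := congr(($(η.naturality a)).app U (show Γ(M, U) from m))
  exact (congrArg (QC.res _ hU) h).trans (QC.app_res ((Scheme.Modules.pullback g).map a) hU
    ((η.app M).app U (show Γ(M, U) from m)))

/-- `B ⊗_A Γ(U, M) ⟶ Γ(U', g^* M)` -/
noncomputable def mu : secF U ρ ⋙ ModuleCat.extendScalars.{u, u, u} φ ⟶
    Scheme.Modules.pullback g ⋙ secF U' ρ' where
  app M := ((ModuleCat.extendRestrictScalarsAdj.{u, u, u} φ).homEquiv _ _).symm (nu g hU hρ M)
  naturality M N a := by
    refine ((ModuleCat.extendRestrictScalarsAdj.{u, u, u} φ).homEquiv_naturality_left_symm _ _).symm.trans ?_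
    rw [nu_naturality]
    exact (ModuleCat.extendRestrictScalarsAdj.{u, u, u} φ).homEquiv_naturality_right_symm _ _

lemma mu_tmul (M : X.Modules) (b : B) (m : Γ(M, U)) :
    letI : Algebra A B := φ.toAlgebra
    (mu g hU hρ).app M (b ⊗ₜ[A] (show (secF U ρ).obj M from m)) =
      (ρ' b) • RelTilde.resθ g ((Scheme.Modules.pullbackPushforwardAdjunction g).unit.app M) hU m := rfl

/-- sections of pullbacks over affine fibre products -/
theorem isIso_mu (hUaff : IsAffineOpen U) (hU'aff : IsAffineOpen U') (M : X.Modules) (hM : Coh.IsQCoh M)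
    (hpo : IsPushout (CommRingCat.ofHom φ) (CommRingCat.ofHom ρ) (CommRingCat.ofHom ρ') (g.appLE U U' hU)) :
    IsIso ((mu g hU hρ).app M) := by
  rw [ConcreteCategory.isIso_iff_bijective]
  let T : Type u := Γ(X, U)
  let T' : Type u := Γ(X', U')
  letI : Algebra A B := φ.toAlgebra
  letI : Algebra A T := ρ.toAlgebra
  letI : Algebra B T' := ρ'.toAlgebra
  letI : Algebra T T' := (g.appLE U U' hU).hom.toAlgebra
  letI : Algebra A T' := (ρ'.comp φ).toAlgebra
  haveI : IsScalarTower A B T' := IsScalarTower.of_algebraMap_eq' rfl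
  haveI : IsScalarTower A T T' := IsScalarTower.of_algebraMap_eq' hρ.symm
  haveI hp : Algebra.IsPushout A B T T' := CommRingCat.isPushout_iff_isPushout.1 hpo
  let hf := hp.symm.out
  let N := (Scheme.Modules.pullback g).obj M
  let θ := RelTilde.resθ g ((Scheme.Modules.pullbackPushforwardAdjunction g).unit.app M) hU
  let P : Type u := Γ(M, U)
  letI : Module A P := Module.compHom P ρ
  haveI : IsScalarTower A T P := ⟨fun a t p => mul_smul (ρ a) t p⟩
  let Q : Type u := Γ(N, U')
  letI : Module T Q := Module.compHom Q (g.appLE U U' hU).hom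
  haveI : IsScalarTower T T' Q := ⟨fun t t' q => mul_smul ((g.appLE U U' hU).hom t) t' q⟩
  let θ' : P →ₗ[T] Q :=
    { toFun := θ, map_add' := map_add θ, map_smul' := fun t p => θ.map_smulₛₗ t p }
  have hθ : IsBaseChange T' θ' := by
    refine IsBaseChange.of_lift_unique _ fun R _ => ?_
    intro _ _ _ w
    letI : AddCommGroup R := Module.addCommMonoidToAddCommGroup T'
    let w' : Γ(M, U) →ₛₗ[(g.appLE U U' hU).hom] R :=
      { toFun := w, map_add' := map_add w, map_smul' := fun t p => (map_smul w t p).trans (algebraMap_smul T' t (w p)).symm }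
    obtain ⟨f, hf, hu⟩ := RelTilde.isBC_unit g hM hUaff hU'aff hU R w'
    exact ⟨f, LinearMap.ext hf, fun f' hf' => hu f' fun m => LinearMap.congr_fun hf' m⟩
  let e : B ⊗[A] P ≃+ Q :=
    ((TensorProduct.comm A B P).toAddEquiv.trans (hf.tensorEquiv P).symm.toAddEquiv).trans
      ((TensorProduct.comm T P T').toAddEquiv.trans hθ.equiv.toAddEquiv)
  have he : ∀ x : B ⊗[A] P, (mu g hU hρ).app M x = e x := fun x => by
    induction x using TensorProduct.induction_on with
    | zero => exact (map_zero _).trans (map_zero e).symm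
    | add a b ha hb => exact (map_add _ a b).trans ((congrArg₂ (· + ·) ha hb).trans (map_add e a b).symm)
    | tmul b p =>
      have h1 : (hf.tensorEquiv P).symm (p ⊗ₜ[A] b) = p ⊗ₜ[T] (algebraMap B T' b) := by
        rw [LinearEquiv.symm_apply_eq]
        simp only [IsBaseChange.tensorEquiv, LinearEquiv.trans_apply, LinearEquiv.lTensor_tmul]
        rw [show algebraMap B T' b = (IsScalarTower.toAlgHom A B T').toLinearMap b from rfl, IsBaseChange.equiv_symm_apply,
          AlgebraTensorModule.cancelBaseChange_tmul, one_smul]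
      refine (mu_tmul g hU hρ M b p).trans ?_
      change _ = hθ.equiv ((TensorProduct.comm T P T') ((hf.tensorEquiv P).symm (p ⊗ₜ[A] b)))
      rw [h1, TensorProduct.comm_tmul, IsBaseChange.equiv_tmul]
      rfl
  have : ⇑(ConcreteCategory.hom ((mu g hU hρ).app M)) = e := funext he
  exact this ▸ e.bijective

end Groth.Agent.FlatBCD
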