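import Groth.Agent.FlatBCD.Derived

/-!
Flat base change: the base change morphism `Lg^* Rf_* ⟶ Rf'_* Lg'^*` is an isomorphism on `D_QCoh`.
-/

set_option autoImplicit false
set_option backward.isDefEq.respectTransparency false
set_option backward.isDefEq.respectTransparency.types false
set_option linter.style.haveILetI false

universe u

open CategoryTheory CategoryTheory.Limits AlgebraicGeometry TopologicalSpace Opposite

attribute [local instance] HasDerivedCategory.standard

namespace Groth.Agent.FlatBCD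

variable {X S X' S' : Scheme.{u}} {f : X ⟶ S} {g : S' ⟶ S} {g' : X' ⟶ X} {f' : X' ⟶ S'}

section Change

variable [DCoh.HasRpush f] [DCoh.HasRpush g] [DCoh.HasLpull g] [DCoh.HasRpush f'] [DCoh.HasRpush g']
  [DCoh.HasLpull g'] (adjg adjg₀ : DCoh.Lpull g ⊣ DCoh.Rpush g) (adjg' adjg₀' : DCoh.Lpull g' ⊣ DCoh.Rpush g')
  (e : DCoh.Rpush g' ⋙ DCoh.Rpush f ≅ DCoh.Rpush f' ⋙ DCoh.Rpush g)

lemma baseChangeApp_change (E : DCoh.D X) :
    DCoh.baseChangeApp adjg adjg' e E =
      (adjg.leftAdjointUniq adjg₀).hom.app _ ≫ DCoh.baseChangeApp adjg₀ adjg₀' e E ≫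
        (DCoh.Rpush f').map ((adjg₀'.leftAdjointUniq adjg').hom.app E) := by
  simp only [DCoh.baseChangeApp]
  rw [Equiv.symm_apply_eq, ← Adjunction.homEquiv_naturality_right_symm, Adjunction.homEquiv_unit]
  rw [(DCoh.Rpush g).map_comp, ← Category.assoc]
  rw [← adjg.homEquiv_unit, Adjunction.homEquiv_leftAdjointUniq_hom_app, ← adjg₀.homEquiv_unit,
    Equiv.apply_symm_apply, ← Adjunction.homEquiv_leftAdjointUniq_hom_app adjg₀' adjg', adjg₀'.homEquiv_unit,
    Functor.map_comp, Category.assoc, Category.assoc]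
  congr 1
  exact e.hom.naturality _

lemma baseChangeApp_naturality {E E' : DCoh.D X} (φ : E ⟶ E') :
    DCoh.baseChangeApp adjg adjg' e E ≫ (DCoh.Rpush f').map ((DCoh.Lpull g').map φ) =
      (DCoh.Lpull g).map ((DCoh.Rpush f).map φ) ≫ DCoh.baseChangeApp adjg adjg' e E' := by
  simp only [DCoh.baseChangeApp]
  rw [← Adjunction.homEquiv_naturality_right_symm, ← Adjunction.homEquiv_naturality_left_symm]
  congr 1
  rw [Category.assoc, ← Functor.map_comp_assoc]
  have h := e.hom.naturality ((DCoh.Lpull g').map φ)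
  simp only [Functor.comp_map] at h
  rw [← h, ← Functor.map_comp_assoc]
  congr 2
  exact (adjg'.unit.naturality φ).symm

end Change

section Rep

variable [QuasiCompact f] [QuasiSeparated f] [Flat g]

/-- representative of the transposed base change map -/
lemma adjK_symm_bc (w : g' ≫ f = f' ≫ g) {I : CochainComplex X.Modules ℤ} {J : CochainComplex X'.Modules ℤ}
    (s : ((Scheme.Modules.pullback g').mapHomologicalComplex (ComplexShape.up ℤ)).obj I ⟶ J) :
    ((adjK g).homEquiv _ ((pH f').obj ((HomotopyCategory.quotient X'.Modules (ComplexShape.up ℤ)).obj J))).symm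
        ((pH f).map ((adjK g').homEquiv ((HomotopyCategory.quotient X.Modules (ComplexShape.up ℤ)).obj I) _
            ((HomotopyCategory.quotient X'.Modules (ComplexShape.up ℤ)).map s)) ≫
          (bcK w).app ((HomotopyCategory.quotient X'.Modules (ComplexShape.up ℤ)).obj J)) =
      (HomotopyCategory.quotient S'.Modules (ComplexShape.up ℤ)).map (bcMap w s) := by
  let a' := KInj.mapHomologicalComplexAdj (Scheme.Modules.pullbackPushforwardAdjunction g') (ComplexShape.up ℤ)
  let a := KInj.mapHomologicalComplexAdj (Scheme.Modules.pullbackPushforwardAdjunction g) (ComplexShape.up ℤ)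
  let q := HomotopyCategory.quotient S'.Modules (ComplexShape.up ℤ)
  let qS := HomotopyCategory.quotient S.Modules (ComplexShape.up ℤ)
  let φ := ((Scheme.Modules.pushforward f).mapHomologicalComplex (ComplexShape.up ℤ)).map (a'.homEquiv _ _ s) ≫
    (NatTrans.mapHomologicalComplex (bcC w).hom (ComplexShape.up ℤ)).app J
  have hm : (pH f).map ((adjK g').homEquiv ((HomotopyCategory.quotient X.Modules (ComplexShape.up ℤ)).obj I) _
            ((HomotopyCategory.quotient X'.Modules (ComplexShape.up ℤ)).map s)) ≫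
          (bcK w).app ((HomotopyCategory.quotient X'.Modules (ComplexShape.up ℤ)).obj J) = qS.map φ := by
    rw [Adjunction.homEquiv_unit, Functor.map_comp]
    refine Eq.trans ?_ (qS.map_comp _ _).symm
    congr 1
  rw [hm, Adjunction.homEquiv_counit]
  refine Eq.trans (Eq.trans ?_ (q.map_comp _ _).symm) (congrArg q.map (?_ : (a.homEquiv _
    (((Scheme.Modules.pushforward f').mapHomologicalComplex (ComplexShape.up ℤ)).obj J)).symm φ = bcMap w s))
  · rfl
  ext n : 1
  change ((Scheme.Modules.pullbackPushforwardAdjunction g).homEquiv _ _).symm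
      ((Scheme.Modules.pushforward f).map ((Scheme.Modules.pullbackPushforwardAdjunction g').homEquiv _ _ (s.f n)) ≫
        (bcC w).hom.app (J.X n)) =
    (sigma w).app (I.X n) ≫ (Scheme.Modules.pushforward f').map (s.f n)
  rw [sigma_eq, ← Adjunction.homEquiv_naturality_right_symm, bcUnit_app, Adjunction.homEquiv_unit, Functor.map_comp,
    Category.assoc, Category.assoc]
  exact congrArg (fun k => ((Scheme.Modules.pullbackPushforwardAdjunction g).homEquiv _ _).symm (_ ≫ k))
    ((bcC w).hom.naturality (s.f n))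

variable [DCoh.HasRpush f] [DCoh.HasRpush g] [DCoh.HasLpull g] [DCoh.HasRpush f'] [DCoh.HasRpush g']
  [DCoh.HasLpull g']

/-- flat base change for the canonical adjunctions at K-injective complexes with injective terms -/
theorem isIso_baseChangeApp_rep (H : IsPullback g' f' f g)
    (e : DCoh.Rpush g' ⋙ DCoh.Rpush f ≅ DCoh.Rpush f' ⋙ DCoh.Rpush g)
    (he : tau' (f := f) (g' := g') ≫ Functor.whiskerLeft DerivedCategory.Qh e.hom = tau'' H.w)
    (I : CochainComplex X.Modules ℤ) [I.IsKInjective] (hIi : ∀ n, Injective (I.X n))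
    (hI : DCoh.IsQCohD (DerivedCategory.Q.obj I)) :
    IsIso (DCoh.baseChangeApp (adjD g) (adjD g') e
      (DerivedCategory.Qh.obj ((HomotopyCategory.quotient X.Modules (ComplexShape.up ℤ)).obj I))) := by
  haveI : Flat g' := MorphismProperty.of_isPullback H.flip ‹Flat g›
  obtain ⟨J, s, hJ, hs, -, hJi⟩ := KInj.exists_kInjective
    (((Scheme.Modules.pullback g').mapHomologicalComplex (ComplexShape.up ℤ)).obj I)
  let qX := HomotopyCategory.quotient X.Modules (ComplexShape.up ℤ)
  let q' := HomotopyCategory.quotient X'.Modules (ComplexShape.up ℤ)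
  let σ := q'.map s
  haveI : IsIso (DerivedCategory.Qh.map σ) :=
    (NatIso.isIso_map_iff (DerivedCategory.quotientCompQhIso X'.Modules) s).2 inferInstance
  haveI := isIso_lpullCounit_of_flat g' I
  let x : (DCoh.Lpull g').obj (DerivedCategory.Qh.obj (qX.obj I)) ⟶ DerivedCategory.Qh.obj (q'.obj J) :=
    (lpullCounit g').app (qX.obj I) ≫ DerivedCategory.Qh.map σ
  let m0 := (adjK g').homEquiv (qX.obj I) (q'.obj J) σ
  let m := (pH f).map m0 ≫ (bcK H.w).app (q'.obj J)
  haveI hu : IsIso ((DerPush.rpushUnit f).app (qX.obj I)) := DerPush.isIso_rpushUnit_app f (I := qX.obj I) ‹_›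
  haveI : IsIso ((DerPush.rpushUnit f').app (q'.obj J)) := DerPush.isIso_rpushUnit_app f' (I := q'.obj J) hJ
  -- the unit
  have h1 : (adjD g').unit.app (DerivedCategory.Qh.obj (qX.obj I)) ≫ (DCoh.Rpush g').map x =
      DerivedCategory.Qh.map m0 ≫ (DerPush.rpushUnit g').app (q'.obj J) := by
    rw [Functor.map_comp, ← Category.assoc, adjD_unit, Category.assoc]
    erw [← (DerPush.rpushUnit g').naturality σ]
    rw [← Category.assoc]
    congr 1
    exact (DerivedCategory.Qh.map_comp _ _).symm.trans (congrArg _ ((adjK g').homEquiv_unit _ _ σ).symm)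
  have h2 : (DerPush.rpushUnit f).app (qX.obj I) ≫
      (adjD g).homEquiv _ _ (DCoh.baseChangeApp (adjD g) (adjD g') e (DerivedCategory.Qh.obj (qX.obj I)) ≫
        (DCoh.Rpush f').map x) =
      DerivedCategory.Qh.map m ≫ (DerPush.rpushUnit g).app ((pH f').obj (q'.obj J)) ≫
        (DCoh.Rpush g).map ((DerPush.rpushUnit f').app (q'.obj J)) := by
    rw [Adjunction.homEquiv_naturality_right, DCoh.baseChangeApp]
    erw [Equiv.apply_symm_apply, Category.assoc]
    erw [← e.hom.naturality x]
    rw [Functor.comp_map, ← (DCoh.Rpush f).map_comp_assoc, h1, (DCoh.Rpush f).map_comp, Category.assoc]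
    erw [← (DerPush.rpushUnit f).naturality_assoc m0]
    have hJe := congr_app he (q'.obj J)
    rw [NatTrans.comp_app, Functor.whiskerLeft_app, tau'_app, tau''_app, Category.assoc] at hJe
    erw [hJe]
    exact (Category.assoc _ _ _).symm.trans (congrArg (fun k => k ≫ (DerPush.rpushUnit g).app ((pH f').obj (q'.obj J)) ≫ (DCoh.Rpush g).map ((DerPush.rpushUnit f').app (q'.obj J)))
      (DerivedCategory.Qh.map_comp ((pH f).map m0) ((bcK H.w).app (q'.obj J)))).symm
  have h3 : (DCoh.Lpull g).map ((DerPush.rpushUnit f).app (qX.obj I)) ≫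
      DCoh.baseChangeApp (adjD g) (adjD g') e (DerivedCategory.Qh.obj (qX.obj I)) ≫ (DCoh.Rpush f').map x =
      (lpullCounit g).app _ ≫ DerivedCategory.Qh.map
        ((HomotopyCategory.quotient S'.Modules (ComplexShape.up ℤ)).map (bcMap H.w s)) ≫
        (DerPush.rpushUnit f').app (q'.obj J) := by
    apply ((adjD g).homEquiv _ _).injective
    rw [Adjunction.homEquiv_naturality_left, h2]
    have h := adjD_symm g m
    rw [Equiv.symm_apply_eq] at h
    rw [← Category.assoc, h, ← adjK_symm_bc H.w s, ← Adjunction.homEquiv_naturality_right]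
    rw [Category.assoc]
    rfl
  haveI := quasiIso_bcMap H s hIi hJi hI
  haveI : IsIso (DerivedCategory.Qh.map
      ((HomotopyCategory.quotient S'.Modules (ComplexShape.up ℤ)).map (bcMap H.w s))) :=
    (NatIso.isIso_map_iff (DerivedCategory.quotientCompQhIso S'.Modules) _).2 inferInstance
  have hα : IsIso ((lpullCounit g).app ((pH f).obj (qX.obj I))) :=
    isIso_lpullCounit_of_flat g (((Scheme.Modules.pushforward f).mapHomologicalComplex (ComplexShape.up ℤ)).obj I)
  haveI : IsIso x := IsIso.comp_isIso' inferInstance inferInstance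
  haveI : IsIso ((DCoh.Lpull g).map ((DerPush.rpushUnit f).app (qX.obj I))) := inferInstance
  haveI : IsIso (DCoh.baseChangeApp (adjD g) (adjD g') e (DerivedCategory.Qh.obj (qX.obj I)) ≫ (DCoh.Rpush f').map x) := by
    refine @IsIso.of_isIso_comp_left _ _ _ _ _ ((DCoh.Lpull g).map ((DerPush.rpushUnit f).app (qX.obj I))) _ ‹_› ?_
    rw [h3]
    exact IsIso.comp_isIso' hα (IsIso.comp_isIso' inferInstance inferInstance)
  exact IsIso.of_isIso_comp_right _ ((DCoh.Rpush f').map x)

/-- flat base change -/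
theorem exists_isIso_baseChangeApp (H : IsPullback g' f' f g) (adjg : DCoh.Lpull g ⊣ DCoh.Rpush g)
    (adjg' : DCoh.Lpull g' ⊣ DCoh.Rpush g') :
    ∃ e : DCoh.Rpush g' ⋙ DCoh.Rpush f ≅ DCoh.Rpush f' ⋙ DCoh.Rpush g,
      ∀ E : DCoh.D X, DCoh.IsQCohD E → IsIso (DCoh.baseChangeApp adjg adjg' e E) := by
  haveI : Flat g' := MorphismProperty.of_isPullback H.flip ‹Flat g›
  obtain ⟨e, he⟩ := exists_iso (f := f) H.w
  refine ⟨e, fun E hE => ?_⟩
  obtain ⟨I, s, hI, hs, -, hIi⟩ := KInj.exists_kInjective ((DerivedCategory.Q : _ ⥤ DCoh.D X).objPreimage E)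
  haveI : IsIso (DerivedCategory.Q.map s) := inferInstance
  let ε : E ≅ DerivedCategory.Qh.obj ((HomotopyCategory.quotient X.Modules (ComplexShape.up ℤ)).obj I) :=
    ((DerivedCategory.Q : _ ⥤ DCoh.D X).objObjPreimageIso E).symm ≪≫ asIso (DerivedCategory.Q.map s) ≪≫
      ((DerivedCategory.quotientCompQhIso X.Modules).app I).symm
  have hq : DCoh.IsQCohD (DerivedCategory.Q.obj I) := fun i =>
    QC.isQCoh_of_iso ((DerivedCategory.homologyFunctor X.Modules i).mapIso
      (ε ≪≫ (DerivedCategory.quotientCompQhIso X.Modules).app I)) (hE i)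
  haveI := isIso_baseChangeApp_rep H e he I hIi hq
  haveI : IsIso (DCoh.baseChangeApp adjg adjg' e
      (DerivedCategory.Qh.obj ((HomotopyCategory.quotient X.Modules (ComplexShape.up ℤ)).obj I))) := by
    rw [baseChangeApp_change adjg (adjD g) adjg' (adjD g') e]
    infer_instance
  haveI : IsIso (DCoh.baseChangeApp adjg adjg' e E ≫ (DCoh.Rpush f').map ((DCoh.Lpull g').map ε.hom)) := by
    rw [baseChangeApp_naturality adjg adjg' e ε.hom]
    infer_instance
  exact IsIso.of_isIso_comp_right _ ((DCoh.Rpush f').map ((DCoh.Lpull g').map ε.hom))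

end Rep

end Groth.Agent.FlatBCD
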