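import Mathlib.Algebra.Homology.ShortComplex.PreservesHomology
import Mathlib.Algebra.Homology.ShortComplex.ModuleCat
import Mathlib.CategoryTheory.Abelian.Exact

/-!
Comparison of the homology of the image of a short complex with the image of the homology under
left exact functors.
-/

set_option autoImplicit false
set_option backward.isDefEq.respectTransparency false
set_option backward.isDefEq.respectTransparency.types false

universe v₁ v₂ v₃ u₁ u₂ u₃

open CategoryTheory Category Limits

namespace Groth.Agent.FlatBCD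

variable {C : Type u₁} [Category.{v₁} C] [Abelian C] {D : Type u₂} [Category.{v₂} D] [Abelian D]
  {E : Type u₃} [Category.{v₃} E] [Abelian E]

variable (G : C ⥤ D) [G.PreservesZeroMorphisms] [PreservesFiniteLimits G]

/-- `Z(GS) ≅ G(Z S)` -/
noncomputable def gam (S : ShortComplex C) : (S.map G).cycles ≅ G.obj S.cycles :=
  (S.map G).cyclesIsKernel.conePointUniqueUpToIso
    (KernelFork.mapIsLimit _ S.cyclesIsKernel G)

@[reassoc (attr := simp)]
lemma gam_hom_i (S : ShortComplex C) : (gam G S).hom ≫ G.map S.iCycles = (S.map G).iCycles :=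
  IsLimit.conePointUniqueUpToIso_hom_comp _ _ WalkingParallelPair.zero

/-- the comparison map `H(GS) ⟶ G(H S)` -/
noncomputable def kap (S : ShortComplex C) : (S.map G).homology ⟶ G.obj S.homology :=
  (S.map G).descHomology ((gam G S).hom ≫ G.map S.homologyπ) (by
    have h : (S.map G).toCycles ≫ (gam G S).hom = G.map S.toCycles := by
      rw [← cancel_mono (G.map S.iCycles), assoc, gam_hom_i, ← G.map_comp, S.toCycles_i]
      exact (S.map G).toCycles_i
    rw [reassoc_of% h, ← G.map_comp, S.toCycles_comp_homologyπ, G.map_zero])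

@[reassoc (attr := simp)]
lemma π_kap (S : ShortComplex C) :
    (S.map G).homologyπ ≫ kap G S = (gam G S).hom ≫ G.map S.homologyπ :=
  (S.map G).π_descHomology _ _

@[reassoc]
lemma kap_naturality {S T : ShortComplex C} (φ : S ⟶ T) :
    ShortComplex.homologyMap (G.mapShortComplex.map φ) ≫ kap G T = kap G S ≫ G.map (ShortComplex.homologyMap φ) := by
  rw [← cancel_epi (S.map G).homologyπ, π_kap_assoc]
  erw [ShortComplex.homologyπ_naturality_assoc]
  erw [π_kap]
  rw [← G.map_comp, ShortComplex.homologyπ_naturality, G.map_comp, ← assoc, ← assoc]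
  congr 1
  rw [← cancel_mono (G.map T.iCycles), assoc, assoc, gam_hom_i, ← G.map_comp, ShortComplex.cyclesMap_i,
    G.map_comp, gam_hom_i_assoc]
  exact ShortComplex.cyclesMap_i (G.mapShortComplex.map φ)

variable {G}

@[reassoc]
lemma kap_natTrans {G' : C ⥤ D} [G'.PreservesZeroMorphisms] [PreservesFiniteLimits G'] (α : G ⟶ G')
    (S : ShortComplex C) :
    ShortComplex.homologyMap (S.mapNatTrans α) ≫ kap G' S = kap G S ≫ α.app S.homology := by
  rw [← cancel_epi (S.map G).homologyπ, π_kap_assoc]
  erw [ShortComplex.homologyπ_naturality_assoc]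
  erw [π_kap]
  rw [α.naturality, ← assoc, ← assoc]
  congr 1
  rw [← cancel_mono (G'.map S.iCycles), assoc, assoc, gam_hom_i, ← α.naturality, gam_hom_i_assoc]
  exact ShortComplex.cyclesMap_i (S.mapNatTrans α)

variable (G)

lemma π_mapIso {C' D' : Type*} [Category C'] [Category D'] [HasZeroMorphisms C'] [HasZeroMorphisms D']
    (S : ShortComplex C') (F : C' ⥤ D') [F.PreservesZeroMorphisms]
    [S.HasHomology] [(S.map F).HasHomology] [F.PreservesLeftHomologyOf S] :
    (S.map F).homologyπ ≫ (S.mapHomologyIso F).hom = (S.mapCyclesIso F).hom ≫ F.map S.homologyπ := by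
  let hl := S.leftHomologyData
  rw [hl.mapHomologyIso_eq F, hl.mapCyclesIso_eq F]
  dsimp only [Iso.trans_hom, Functor.mapIso_hom, Iso.symm_hom]
  rw [← assoc, (hl.map F).homologyπ_comp_homologyIso_hom, assoc, assoc, ← F.map_comp]
  congr 1
  change F.map hl.π ≫ _ = _
  rw [← F.map_comp, hl.π_comp_homologyIso_inv]

/-- precomposition with an exact functor -/
lemma kap_comp_left (F : E ⥤ C) [F.PreservesZeroMorphisms] [F.PreservesHomology] [PreservesFiniteLimits F]
    [(F ⋙ G).PreservesZeroMorphisms] [PreservesFiniteLimits (F ⋙ G)] (S : ShortComplex E) :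
    kap (F ⋙ G) S = kap G (S.map F) ≫ G.map (S.mapHomologyIso F).hom := by
  refine (cancel_epi (S.map (F ⋙ G)).homologyπ).1 ((π_kap (F ⋙ G) S).trans ?_)
  refine Eq.trans ?_ (π_kap_assoc G (S.map F) _).symm
  rw [← G.map_comp, π_mapIso, G.map_comp, ← assoc]
  refine congrArg (· ≫ G.map (F.map S.homologyπ)) ?_
  refine (cancel_mono (G.map (F.map S.iCycles))).1 ((gam_hom_i (F ⋙ G) S).trans ?_)
  rw [assoc, ← G.map_comp, ShortComplex.mapCyclesIso_hom_iCycles, gam_hom_i]
  rfl

/-- postcomposition with an exact functor -/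
lemma isIso_kap_comp_right (F : D ⥤ E) [F.PreservesZeroMorphisms] [F.PreservesHomology] [PreservesFiniteLimits F]
    [(G ⋙ F).PreservesZeroMorphisms] [PreservesFiniteLimits (G ⋙ F)] (S : ShortComplex C) [IsIso (kap G S)] :
    IsIso (kap (G ⋙ F) S) := by
  have e : kap (G ⋙ F) S = ((S.map G).mapHomologyIso F).hom ≫ F.map (kap G S) := by
    refine (cancel_epi (S.map (G ⋙ F)).homologyπ).1 ((π_kap (G ⋙ F) S).trans ?_)
    refine Eq.trans ?_ (Eq.trans (congrArg (· ≫ F.map (kap G S)) (π_mapIso (S.map G) F).symm) (assoc _ _ _))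
    rw [assoc, ← F.map_comp, π_kap, F.map_comp, ← assoc]
    refine congrArg (· ≫ F.map (G.map S.homologyπ)) ?_
    refine (cancel_mono (F.map (G.map S.iCycles))).1 ((gam_hom_i (G ⋙ F) S).trans ?_)
    rw [assoc, ← F.map_comp, gam_hom_i, ShortComplex.mapCyclesIso_hom_iCycles]
    rfl
  rw [e]
  exact (inferInstance : IsIso (((S.map G).mapHomologyIso F).hom ≫ F.map (kap G S)))

end Groth.Agent.FlatBCD
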