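import Groth.Agent.DerPush.Basic
import Groth.Agent.KFlat.TorFlat
import Groth.Agent.RelPCS.FlatBase
import Groth.Agent.ModSiteFree.Basic
import Groth.Agent.DQCoh.Affine

/-!
The derived adjunction `Lf^* ⊣ Rf_*` at the level of representatives; lifting for direct images of
K-injective complexes.
-/

set_option autoImplicit false
set_option backward.isDefEq.respectTransparency false
set_option backward.isDefEq.respectTransparency.types false
set_option linter.style.haveILetI false

universe u

open CategoryTheory CategoryTheory.Limits AlgebraicGeometry Opposite HomologicalComplex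

attribute [local instance] HasDerivedCategory.standard

namespace Groth.Agent.FlatBCD

variable {X Y : Scheme.{u}} (f : X ⟶ Y)

/-- the adjunction on homotopy categories -/
noncomputable abbrev adjK :
    (Scheme.Modules.pullback f).mapHomotopyCategory (ComplexShape.up ℤ) ⊣
      (Scheme.Modules.pushforward f).mapHomotopyCategory (ComplexShape.up ℤ) :=
  KInj.mapHomotopyCategoryAdj (Scheme.Modules.pullbackPushforwardAdjunction f) (ComplexShape.up ℤ)

variable [DCoh.HasLpull f] [DCoh.HasRpush f]

/-- the counit of `Lf^*` -/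
noncomputable abbrev lpullCounit : DerivedCategory.Qh ⋙ DCoh.Lpull f ⟶ DCoh.pullKh f :=
  (DCoh.pullKh f).totalLeftDerivedCounit DerivedCategory.Qh (HomotopyCategory.quasiIso Y.Modules (ComplexShape.up ℤ))

/-- the canonical derived adjunction -/
noncomputable def adjD : DCoh.Lpull f ⊣ DCoh.Rpush f :=
  haveI := KFlat.isLeftDerivedFunctor_comp_of_kFlatAcyclic (KFlat.kFlatAcyclic_pullback f) (DCoh.Lpull f)
    (lpullCounit f) (DCoh.Rpush f)
  haveI := (KInj.isDeforming_Qh DerPush.exists_kInj_sch (DCoh.pushKh f)).isRightDerivedFunctor_comp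
    (HomotopyCategory.quasiIso X.Modules (ComplexShape.up ℤ)) (DCoh.Rpush f) (DerPush.rpushUnit f) (DCoh.Lpull f)
  (adjK f).derived (HomotopyCategory.quasiIso Y.Modules (ComplexShape.up ℤ))
    (HomotopyCategory.quasiIso X.Modules (ComplexShape.up ℤ)) (lpullCounit f) (DerPush.rpushUnit f)

/-- adjuncts of maps between representatives -/
lemma adjD_symm {F : HomotopyCategory Y.Modules (ComplexShape.up ℤ)}
    {Z : HomotopyCategory X.Modules (ComplexShape.up ℤ)}
    (m : F ⟶ ((Scheme.Modules.pushforward f).mapHomotopyCategory (ComplexShape.up ℤ)).obj Z) :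
    ((adjD f).homEquiv _ _).symm (DerivedCategory.Qh.map m ≫ (DerPush.rpushUnit f).app Z) =
      (lpullCounit f).app F ≫ DerivedCategory.Qh.map (((adjK f).homEquiv F Z).symm m) := by
  haveI := (KInj.isDeforming_Qh DerPush.exists_kInj_sch (DCoh.pushKh f)).isRightDerivedFunctor_comp
    (HomotopyCategory.quasiIso X.Modules (ComplexShape.up ℤ)) (DCoh.Rpush f) (DerPush.rpushUnit f) (DCoh.Lpull f)
  rw [Adjunction.homEquiv_counit, Functor.map_comp, Category.assoc]
  change _ ≫ (DCoh.Lpull f).map ((DerPush.rpushUnit f).app Z) ≫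
    ((adjK f).derivedε (HomotopyCategory.quasiIso X.Modules (ComplexShape.up ℤ)) (lpullCounit f)
      (DerPush.rpushUnit f)).app _ = _
  rw [Adjunction.derivedε_fac_app, Adjunction.homEquiv_counit, Functor.map_comp]
  exact (lpullCounit f).naturality_assoc m _

/-- the unit at a representative -/
lemma adjD_unit (F : HomotopyCategory Y.Modules (ComplexShape.up ℤ)) :
    (adjD f).unit.app (DerivedCategory.Qh.obj F) ≫ (DCoh.Rpush f).map ((lpullCounit f).app F) =
      DerivedCategory.Qh.map ((adjK f).unit.app F) ≫ (DerPush.rpushUnit f).app _ := by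
  haveI := KFlat.isLeftDerivedFunctor_comp_of_kFlatAcyclic (KFlat.kFlatAcyclic_pullback f) (DCoh.Lpull f)
    (lpullCounit f) (DCoh.Rpush f)
  exact (adjK f).derivedη_fac_app (HomotopyCategory.quasiIso Y.Modules (ComplexShape.up ℤ)) (lpullCounit f)
    (DerPush.rpushUnit f) F

/-- maps from K-flat complexes into `f_*` of K-injective complexes -/
theorem bijective_Qh_push {F : CochainComplex Y.Modules ℤ} (hF : DCoh.IsKFlat F)
    (I : CochainComplex X.Modules ℤ) [I.IsKInjective] :
    Function.Bijective fun m : (HomotopyCategory.quotient Y.Modules (ComplexShape.up ℤ)).obj F ⟶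
        ((Scheme.Modules.pushforward f).mapHomotopyCategory (ComplexShape.up ℤ)).obj
          ((HomotopyCategory.quotient X.Modules (ComplexShape.up ℤ)).obj I) =>
      DerivedCategory.Qh.map m := by
  let q := HomotopyCategory.quotient X.Modules (ComplexShape.up ℤ)
  haveI hα : IsIso ((lpullCounit f).app ((HomotopyCategory.quotient Y.Modules (ComplexShape.up ℤ)).obj F)) :=
    KFlat.isIso_app_of_kFlat (KFlat.kFlatAcyclic_pullback f) (DCoh.Lpull f) (lpullCounit f) hF
  haveI hβ : IsIso ((DerPush.rpushUnit f).app (q.obj I)) := DerPush.isIso_rpushUnit_app f (I := q.obj I) ‹_›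
  let E := (Iso.homCongr (asIso ((lpullCounit f).app ((HomotopyCategory.quotient Y.Modules (ComplexShape.up ℤ)).obj F)))
    (Iso.refl (DerivedCategory.Qh.obj (q.obj I)))).symm.trans (((adjD f).homEquiv _ _).trans
      (Iso.homCongr (Iso.refl _) (asIso ((DerPush.rpushUnit f).app (q.obj I))).symm))
  have hK : Function.Bijective fun k : ((Scheme.Modules.pullback f).mapHomotopyCategory (ComplexShape.up ℤ)).obj
      ((HomotopyCategory.quotient Y.Modules (ComplexShape.up ℤ)).obj F) ⟶ q.obj I => DerivedCategory.Qh.map k :=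
    CochainComplex.IsKInjective.Qh_map_bijective _ I
  convert E.bijective.comp (hK.comp ((adjK f).homEquiv _ (q.obj I)).symm.bijective) using 1
  funext m
  have h := adjD_symm f m
  rw [Equiv.symm_apply_eq] at h
  simp only [E, Function.comp_apply, Equiv.trans_apply, Iso.homCongr_symm, Iso.homCongr_apply, Iso.symm_hom,
    asIso_hom, asIso_inv, Iso.refl_hom, Iso.refl_inv, Category.id_comp, Category.comp_id, Iso.symm_inv]
  rw [IsIso.eq_comp_inv]
  exact h

omit [DCoh.HasLpull f] [DCoh.HasRpush f] in
/-- a free module in degree zero is K-flat -/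
lemma isKFlat_single_free (V : Y.Opens) :
    DCoh.IsKFlat ((CochainComplex.singleFunctor Y.Modules 0).obj ((HDU.modData Y.sheaf).P V)) := by
  refine KFlat.isKFlat_of_bounded_above_flat _ 0 inferInstance fun n => ?_
  by_cases h : n = 0
  · subst h
    exact KFlat.isFlat_of_iso (singleObjXSelf (ComplexShape.up ℤ) 0 _).symm
      (KFlat.isFlat_of_flatObj (KFlat.flatObj_sheafify_free Y.sheaf (yoneda.obj V)))
  · exact KFlat.isFlat_of_isZero (isZero_single_obj_X _ _ _ _ h)

/-- lifting of classes over affine opens for complexes computing maps out of free modules -/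
theorem lifts_of_bijective (J : CochainComplex Y.Modules ℤ) (hJ : DCoh.IsQCohD (DerivedCategory.Q.obj J))
    (U : Y.Opens) (hU : IsAffineOpen U)
    (hb : Function.Bijective fun m : (HomotopyCategory.quotient Y.Modules (ComplexShape.up ℤ)).obj
        ((CochainComplex.singleFunctor Y.Modules 0).obj ((HDU.modData Y.sheaf).P U)) ⟶
        (HomotopyCategory.quotient Y.Modules (ComplexShape.up ℤ)).obj J => DerivedCategory.Qh.map m) :
    DQCoh.Lifts ((HDU.modData Y.sheaf).P U) (J.sc 0) := by
  have ht := DQCoh.toH0_bijective_affine _ hJ U hU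
  let P : Y.Modules := (HDU.modData Y.sheaf).P U
  change Function.Bijective (fun x : (DerivedCategory.singleFunctor Y.Modules 0).obj P ⟶ _ => HDU.toH0 x) at ht
  change DQCoh.Lifts P (J.sc 0)
  let q := HomotopyCategory.quotient Y.Modules (ComplexShape.up ℤ)
  let e := DerivedCategory.quotientCompQhIso Y.Modules
  have hQ : ∀ φ : (CochainComplex.singleFunctor Y.Modules 0).obj P ⟶ J,
      DerivedCategory.Q.map φ = e.inv.app _ ≫ DerivedCategory.Qh.map (q.map φ) ≫ e.hom.app _ := fun φ => by
    exact ((Iso.app e _).eq_inv_comp).2 (e.hom.naturality φ).symm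
  let r := (DerivedCategory.homologyFunctorFactors Y.Modules 0).inv.app J
  refine ⟨fun v => ?_, fun f hf => ?_⟩
  · obtain ⟨x, hx⟩ := ht.2 (v ≫ r)
    obtain ⟨m, hm⟩ := hb.2 (e.hom.app _ ≫ x ≫ e.inv.app _)
    obtain ⟨φ, rfl⟩ := q.map_surjective m
    change DerivedCategory.Qh.map (q.map φ) = _ at hm
    have hx' : DerivedCategory.Q.map φ = x := by
      rw [hQ, hm]
      simp only [Category.assoc, Iso.inv_hom_id_app]
      erw [Iso.inv_hom_id_app_assoc]
      exact Category.comp_id x
    subst hx'
    let f₀ := (singleObjXSelf (ComplexShape.up ℤ) 0 P).inv ≫ φ.f 0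
    have hf₀ : f₀ ≫ J.d 0 1 = 0 := by
      simp [f₀, φ.comm 0 1, CochainComplex.singleFunctor, CochainComplex.singleFunctors]
    refine ⟨J.liftCycles f₀ 1 (by simp) hf₀, ?_⟩
    refine (cancel_mono r).1 ?_
    rw [Category.assoc, ← hx]
    exact (HDU.toH0_mkHom _ φ (by rw [liftCycles_i])).symm
  · let φ : (CochainComplex.singleFunctor Y.Modules 0).obj P ⟶ J :=
      HomologicalComplex.mkHomFromSingle (f ≫ J.iCycles 0) (fun i _ => by simp)
    have h0 : (DerivedCategory.Q : _ ⥤ DCoh.D Y).map φ = DerivedCategory.Q.map 0 := by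
      rw [Functor.map_zero]
      refine ht.1 ?_
      show HDU.toH0 _ = HDU.toH0 0
      rw [HDU.toH0_mkHom f φ (by simp only [φ, mkHomFromSingle_f, Iso.inv_hom_id_assoc]), ← Category.assoc]
      erw [hf, zero_comp]
      simp [HDU.toH0]
    have h1 : q.map φ = q.map 0 := hb.1 ((cancel_epi (e.inv.app _)).1 ((cancel_mono (e.hom.app _)).1 (by
      rw [Category.assoc, Category.assoc]
      exact (hQ φ).symm.trans (h0.trans (hQ 0)))))
    let H := HomotopyCategory.homotopyOfEq φ 0 h1
    refine ⟨(singleObjXSelf (ComplexShape.up ℤ) 0 P).inv ≫ H.hom 0 ((ComplexShape.up ℤ).prev 0), ?_⟩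
    have h1 := H.comm 0
    simp only [φ, zero_f, add_zero, mkHomFromSingle_f] at h1
    have h2 : dNext 0 H.hom = 0 := by
      rw [dNext_eq _ (show (ComplexShape.up ℤ).Rel 0 1 by simp)]
      simp [CochainComplex.singleFunctor, CochainComplex.singleFunctors]
    rw [h2, zero_add] at h1
    change (_ ≫ H.hom 0 ((ComplexShape.up ℤ).prev 0)) ≫ J.d _ 0 = _
    rw [Category.assoc]
    refine ((Iso.inv_comp_eq _).2 ?_)
    exact h1.symm

/-- sections over affine opens of the cohomology of `f_*` of a K-injective complex -/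
theorem lifts_push [QuasiCompact f] [QuasiSeparated f] (I : CochainComplex X.Modules ℤ) [I.IsKInjective]
    (hI : ∀ J : CochainComplex X.Modules ℤ, J.IsKInjective →
      DCoh.IsQCohD (DerivedCategory.Q.obj J) →
        DCoh.IsQCohD (DerivedCategory.Q.obj (((Scheme.Modules.pushforward f).mapHomologicalComplex (ComplexShape.up ℤ)).obj J)))
    (hq : DCoh.IsQCohD (DerivedCategory.Q.obj I)) (U : Y.Opens) (hU : IsAffineOpen U) (q : ℤ) :
    DQCoh.Lifts ((HDU.modData Y.sheaf).P U)
      ((((Scheme.Modules.pushforward f).mapHomologicalComplex (ComplexShape.up ℤ)).obj I).sc q) := by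
  let FC := (Scheme.Modules.pushforward f).mapHomologicalComplex (ComplexShape.up ℤ)
  haveI : (I⟦q⟧).IsKInjective := inferInstance
  have hq' : DCoh.IsQCohD (DerivedCategory.Q.obj (I⟦q⟧)) := fun i =>
    QC.isQCoh_of_iso (((DerivedCategory.homologyFunctor X.Modules i).mapIso
      (((DerivedCategory.Q : _ ⥤ DCoh.D X).commShiftIso q).app I)) ≪≫
      ((DerivedCategory.homologyFunctor X.Modules 0).shiftIso q i (q + i) rfl).app _).symm (hq (q + i))
  have h := lifts_of_bijective _ (hI _ ‹_› hq') U hU (bijective_Qh_push f (isKFlat_single_free U) (I⟦q⟧))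
  exact DQCoh.Lifts.of_iso ((HomologicalComplex.shortComplexFunctor Y.Modules (ComplexShape.up ℤ) 0).mapIso
      ((FC.commShiftIso q).app I) ≪≫
    (CochainComplex.shiftShortComplexFunctorIso Y.Modules q 0 q (by omega)).app (FC.obj I)) h

end Groth.Agent.FlatBCD
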