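import Groth.Agent.FlatBCD.Core
import Groth.Agent.FlatBCD.Weak

/-!
The base change map of complexes and its comparison with sections.
-/

set_option autoImplicit false
set_option backward.isDefEq.respectTransparency false
set_option backward.isDefEq.respectTransparency.types false
set_option linter.style.haveILetI false
set_option linter.unusedSectionVars false

universe u

open CategoryTheory CategoryTheory.Limits AlgebraicGeometry TopologicalSpace Opposite

attribute [local instance] HasDerivedCategory.standard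

namespace Groth.Agent.FlatBCD

section Generic

variable {M N D : Type*} [Category M] [Abelian M] [Category N] [Abelian N] [Category D] [Abelian D]
  (P : M ⥤ N) [P.Additive] [PreservesFiniteLimits P] [PreservesFiniteColimits P]
  {I : CochainComplex M ℤ} {J : CochainComplex N ℤ}
  (s : (P.mapHomologicalComplex (ComplexShape.up ℤ)).obj I ⟶ J)

/-- comparison maps on homology -/
lemma homology_cmp {F : M ⥤ D} {G : N ⥤ D} [F.Additive] [G.Additive] [PreservesFiniteLimits F]
    [PreservesFiniteLimits G] [PreservesFiniteLimits (P ⋙ G)] (μ : F ⟶ P ⋙ G) (i : ℤ) :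
    HomologicalComplex.homologyMap (cmp s μ) i ≫ kap G (J.sc i) =
      kap F (I.sc i) ≫ μ.app (I.sc i).homology ≫
        G.map (((I.sc i).mapHomologyIso P).inv ≫ ShortComplex.homologyMap
          (show (I.sc i).map P ⟶ J.sc i from (HomologicalComplex.shortComplexFunctor N (ComplexShape.up ℤ) i).map s)) := by
  let S₀ := I.sc i
  let σ : S₀.map P ⟶ J.sc i := (HomologicalComplex.shortComplexFunctor N (ComplexShape.up ℤ) i).map s
  have e : HomologicalComplex.homologyMap (cmp s μ) i =
      ShortComplex.homologyMap (S₀.mapNatTrans μ) ≫ ShortComplex.homologyMap (G.mapShortComplex.map σ) := by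
    rw [← ShortComplex.homologyMap_comp]
    rfl
  rw [e, Category.assoc, kap_naturality, ← kap_natTrans_assoc μ S₀, kap_comp_left G P S₀, Category.assoc,
    ← G.map_comp, Iso.hom_inv_id_assoc]

end Generic

variable {X S X' S' : Scheme.{u}} {f : X ⟶ S} {g : S' ⟶ S} {g' : X' ⟶ X} {f' : X' ⟶ S'}

/-- `f_* g'_* = g_* f'_*` -/
noncomputable def bcC (w : g' ≫ f = f' ≫ g) :
    Scheme.Modules.pushforward g' ⋙ Scheme.Modules.pushforward f ≅
      Scheme.Modules.pushforward f' ⋙ Scheme.Modules.pushforward g :=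
  Scheme.Modules.pushforwardComp g' f ≪≫ Scheme.Modules.pushforwardCongr w ≪≫
    (Scheme.Modules.pushforwardComp f' g).symm

lemma bcC_app (w : g' ≫ f = f' ≫ g) (N : X'.Modules) (V : S.Opens) (t : Γ(N, g' ⁻¹ᵁ (f ⁻¹ᵁ V))) :
    ((bcC w).hom.app N).app V t =
      QC.res N (show f' ⁻¹ᵁ (g ⁻¹ᵁ V) ≤ g' ⁻¹ᵁ (f ⁻¹ᵁ V) by
        rw [← Scheme.Hom.comp_preimage, ← Scheme.Hom.comp_preimage, w]) t := rfl

/-- `f_* M ⟶ g_* f'_* g'^* M` -/
noncomputable def bcUnit (w : g' ≫ f = f' ≫ g) :
    Scheme.Modules.pushforward f ⟶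
      (Scheme.Modules.pullback g' ⋙ Scheme.Modules.pushforward f') ⋙ Scheme.Modules.pushforward g :=
  (Functor.leftUnitor _).inv ≫
    Functor.whiskerRight (Scheme.Modules.pullbackPushforwardAdjunction g').unit (Scheme.Modules.pushforward f) ≫
    (Functor.associator _ _ _).hom ≫ Functor.whiskerLeft (Scheme.Modules.pullback g') (bcC w).hom ≫
    (Functor.associator _ _ _).inv

lemma bcUnit_app (w : g' ≫ f = f' ≫ g) (M : X.Modules) :
    (bcUnit w).app M = (Scheme.Modules.pushforward f).map ((Scheme.Modules.pullbackPushforwardAdjunction g').unit.app M) ≫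
      (bcC w).hom.app ((Scheme.Modules.pullback g').obj M) := by
  simp only [bcUnit, NatTrans.comp_app, Functor.associator_hom_app, Functor.associator_inv_app,
    Functor.leftUnitor_inv_app, Functor.whiskerRight_app, Functor.whiskerLeft_app, Category.id_comp, Category.comp_id]

/-- the base change map of modules -/
noncomputable def sigma (w : g' ≫ f = f' ≫ g) :
    Scheme.Modules.pushforward f ⋙ Scheme.Modules.pullback g ⟶
      Scheme.Modules.pullback g' ⋙ Scheme.Modules.pushforward f' :=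
  Functor.whiskerRight (bcUnit w) (Scheme.Modules.pullback g) ≫ (Functor.associator _ _ _).hom ≫
    Functor.whiskerLeft (Scheme.Modules.pullback g' ⋙ Scheme.Modules.pushforward f')
      (Scheme.Modules.pullbackPushforwardAdjunction g).counit ≫ (Functor.rightUnitor _).hom

lemma sigma_eq (w : g' ≫ f = f' ≫ g) (M : X.Modules) :
    (sigma w).app M = ((Scheme.Modules.pullbackPushforwardAdjunction g).homEquiv _ _).symm ((bcUnit w).app M) := by
  rw [Adjunction.homEquiv_counit]
  simp only [sigma, NatTrans.comp_app, Functor.associator_hom_app, Functor.rightUnitor_hom_app,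
    Functor.whiskerRight_app, Functor.whiskerLeft_app, Category.id_comp, Category.comp_id]
  rfl

lemma sigma_apply (w : g' ≫ f = f' ≫ g) (M : X.Modules) (V : S.Opens) (m : Γ(M, f ⁻¹ᵁ V)) :
    ((sigma w).app M).app (g ⁻¹ᵁ V)
        (((Scheme.Modules.pullbackPushforwardAdjunction g).unit.app ((Scheme.Modules.pushforward f).obj M)).app V m) =
      QC.res _ (show f' ⁻¹ᵁ (g ⁻¹ᵁ V) ≤ g' ⁻¹ᵁ (f ⁻¹ᵁ V) by
          rw [← Scheme.Hom.comp_preimage, ← Scheme.Hom.comp_preimage, w])
        (((Scheme.Modules.pullbackPushforwardAdjunction g').unit.app M).app (f ⁻¹ᵁ V) m) := by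
  let adj := Scheme.Modules.pullbackPushforwardAdjunction g
  have h : adj.unit.app _ ≫ (Scheme.Modules.pushforward g).map ((sigma w).app M) = (bcUnit w).app M :=
    (adj.homEquiv_unit _ _ _).symm.trans ((congrArg (adj.homEquiv _ _) (sigma_eq w M)).trans (Equiv.apply_symm_apply _ _))
  have h' := congr(($(h.trans (bcUnit_app w M))).app V m)
  rw [Scheme.Modules.Hom.comp_app, Scheme.Modules.Hom.comp_app, ConcreteCategory.comp_apply, ConcreteCategory.comp_apply] at h'
  exact h'.trans (bcC_app w ((Scheme.Modules.pullback g').obj M) V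
    (((Scheme.Modules.pullbackPushforwardAdjunction g').unit.app M).app (f ⁻¹ᵁ V) m))

section Sections

variable {A : Type u} [CommRing A] {T Y : Scheme.{u}} (p : T ⟶ Y) {V : Y.Opens} {U : T.Opens} (hU : U ≤ p ⁻¹ᵁ V)
  {ρ : A →+* Γ(Y, V)} {ρ' : A →+* Γ(T, U)} (hρ : (p.appLE V U hU).hom.comp ρ = ρ')

/-- sections of a direct image, restricted -/
noncomputable def secPush : Scheme.Modules.pushforward p ⋙ secF V ρ ⟶ secF U ρ' where
  app M := ModuleCat.ofHom (X := (Scheme.Modules.pushforward p ⋙ secF V ρ).obj M) (Y := (secF U ρ').obj M)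
    { toFun := fun m => QC.res M hU (show Γ(M, p ⁻¹ᵁ V) from m)
      map_add' := fun a b => map_add (QC.res M hU) (show Γ(M, p ⁻¹ᵁ V) from a) (show Γ(M, p ⁻¹ᵁ V) from b)
      map_smul' := fun r m => by
        refine (QC.res_smul M hU ((p.app V).hom (ρ r)) (show Γ(M, p ⁻¹ᵁ V) from m)).trans ?_
        exact congrArg (fun c : Γ(T, U) => c • QC.res M hU (show Γ(M, p ⁻¹ᵁ V) from m)) (RingHom.congr_fun hρ r) }
  naturality M N a := ModuleCat.hom_ext (LinearMap.ext fun m => QC.app_res a hU (show Γ(M, p ⁻¹ᵁ V) from m))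

lemma isIso_secPush_app (hU' : p ⁻¹ᵁ V ≤ U) (M : T.Modules) : IsIso ((secPush p hU hρ).app M) := by
  rw [ConcreteCategory.isIso_iff_bijective]
  exact ⟨fun a b h => (QC.res_self M _ (show Γ(M, p ⁻¹ᵁ V) from a)).symm.trans ((QC.res_res M hU' hU _).symm.trans
      ((congrArg (QC.res M hU') h).trans ((QC.res_res M hU' hU _).trans (QC.res_self M _ _)))),
    fun b => ⟨QC.res M hU' (show Γ(M, U) from b), (QC.res_res M hU hU' (show Γ(M, U) from b)).trans (QC.res_self M _ _)⟩⟩

end Sections

variable (H : IsPullback g' f' f g) {V : S.Opens} {W : S'.Opens} (hW : W ≤ g ⁻¹ᵁ V)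

lemma id_comm : (g.appLE V W hW).hom.comp (RingHom.id Γ(S, V)) = (RingHom.id Γ(S', W)).comp (g.appLE V W hW).hom :=
  rfl

include H in
lemma pre_eq : pre g' f' W (f ⁻¹ᵁ V) ≤ f' ⁻¹ᵁ W ∧ (W ≤ g ⁻¹ᵁ V → f' ⁻¹ᵁ W ≤ pre g' f' W (f ⁻¹ᵁ V)) :=
  ⟨inf_le_right, fun hW => le_inf ((f'.preimage_mono hW).trans
    (by rw [← Scheme.Hom.comp_preimage, ← Scheme.Hom.comp_preimage, H.w])) le_rfl⟩

/-- sections of the base change map -/
lemma sigma_muU :
    (Functor.whiskerLeft (Scheme.Modules.pushforward f) (mu g hW (id_comm hW)) ≫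
        Functor.whiskerRight (sigma H.w) (secF W (RingHom.id _))) ≫
      Functor.whiskerLeft (Scheme.Modules.pullback g')
        (secPush f' (pre_eq H).1 (rfl : _ = rhoX' g' f' W (f ⁻¹ᵁ V))) =
    Functor.whiskerRight (secPush f le_rfl (rfl : _ = rhoX f V (f ⁻¹ᵁ V) le_rfl))
      (ModuleCat.extendScalars.{u, u, u} (g.appLE V W hW).hom) ≫ muU H hW (f ⁻¹ᵁ V) le_rfl := by
  ext M : 2
  let φ := (g.appLE V W hW).hom
  let adj := ModuleCat.extendRestrictScalarsAdj.{u, u, u} φ
  let fM := (Scheme.Modules.pushforward f).obj M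
  change ((adj.homEquiv _ _).symm (nu g hW (id_comm hW) fM) ≫ _) ≫ _ =
    (ModuleCat.extendScalars.{u, u, u} φ).map _ ≫ (adj.homEquiv _ _).symm _
  refine ((Category.assoc _ _ _).trans ((adj.homEquiv_naturality_right_symm _ _).symm.trans ?_)).trans
    (adj.homEquiv_naturality_left_symm _ _)
  refine congrArg (adj.homEquiv _ _).symm (ModuleCat.hom_ext (LinearMap.ext fun m => ?_))
  let η := (Scheme.Modules.pullbackPushforwardAdjunction g).unit.app fM
  let η' := (Scheme.Modules.pullbackPushforwardAdjunction g').unit.app M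
  have h1 : ((sigma H.w).app M).app W (QC.res _ hW (η.app V m)) =
      QC.res ((Scheme.Modules.pullback g').obj M) ((f'.preimage_mono hW).trans
        (show f' ⁻¹ᵁ (g ⁻¹ᵁ V) ≤ g' ⁻¹ᵁ (f ⁻¹ᵁ V) by
          rw [← Scheme.Hom.comp_preimage, ← Scheme.Hom.comp_preimage, H.w])) (η'.app (f ⁻¹ᵁ V) m) := by
    refine (QC.app_res ((sigma H.w).app M) hW _).symm.trans ?_
    refine (congrArg (QC.res _ hW) (sigma_apply H.w M V m)).trans ?_
    exact QC.res_res _ (f'.preimage_mono hW) _ _
  refine (congrArg (QC.res ((Scheme.Modules.pullback g').obj M) (pre_eq H).1) h1).trans ?_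
  refine (QC.res_res _ _ _ _).trans ?_
  exact (congrArg (QC.res ((Scheme.Modules.pullback g').obj M) inf_le_left)
    (congrArg (η'.app (f ⁻¹ᵁ V)) (QC.res_self M _ (show Γ(M, f ⁻¹ᵁ V) from m)))).symm

end Groth.Agent.FlatBCD
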