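import Groth.Agent.FlatBCD.Square
import Groth.Agent.DQPush.Basic
import Groth.Agent.DQPush.QcFlasque

/-!
The base change map of complexes is a quasi-isomorphism (flat base change).
-/

set_option autoImplicit false
set_option backward.isDefEq.respectTransparency false
set_option backward.isDefEq.respectTransparency.types false
set_option linter.style.haveILetI false
set_option maxHeartbeats 400000

universe u

open CategoryTheory CategoryTheory.Limits AlgebraicGeometry TopologicalSpace Opposite

attribute [local instance] HasDerivedCategory.standard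

namespace Groth.Agent.FlatBCD

variable {X S X' S' : Scheme.{u}} {f : X ⟶ S} {g : S' ⟶ S} {g' : X' ⟶ X} {f' : X' ⟶ S'}

/-- cohomology of `f_*` of K-injective complexes is quasi-coherent -/
lemma isQCohD_push [DCoh.HasRpush f] [QuasiCompact f] [QuasiSeparated f] (J : CochainComplex X.Modules ℤ)
    [J.IsKInjective] (hJ : DCoh.IsQCohD (DerivedCategory.Q.obj J)) :
    DCoh.IsQCohD (DerivedCategory.Q.obj (((Scheme.Modules.pushforward f).mapHomologicalComplex (ComplexShape.up ℤ)).obj J)) := by
  let q := HomotopyCategory.quotient X.Modules (ComplexShape.up ℤ)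
  haveI : IsIso ((DerPush.rpushUnit f).app (q.obj J)) := DerPush.isIso_rpushUnit_app f (I := q.obj J) ‹_›
  let e : DerivedCategory.Q.obj (((Scheme.Modules.pushforward f).mapHomologicalComplex (ComplexShape.up ℤ)).obj J) ≅
      (DCoh.Rpush f).obj (DerivedCategory.Q.obj J) :=
    ((DerivedCategory.quotientCompQhIso S.Modules).app _).symm ≪≫
      (DerivedCategory.Qh.mapIso (((Scheme.Modules.pushforward f).mapHomotopyCategoryFactors (ComplexShape.up ℤ)).app J).symm) ≪≫
      asIso ((DerPush.rpushUnit f).app (q.obj J)) ≪≫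
      (DCoh.Rpush f).mapIso ((DerivedCategory.quotientCompQhIso X.Modules).app J)
  exact fun i => QC.isQCoh_of_iso ((DerivedCategory.homologyFunctor S.Modules i).mapIso e.symm)
    (DQPush.isQCohD_rpush f hJ i)

/-- pullbacks along flat maps have quasi-coherent cohomology -/
lemma isQCohD_pull [Flat g'] {I : CochainComplex X.Modules ℤ} {J : CochainComplex X'.Modules ℤ}
    (s : ((Scheme.Modules.pullback g').mapHomologicalComplex (ComplexShape.up ℤ)).obj I ⟶ J) [QuasiIso s]
    (hI : DCoh.IsQCohD (DerivedCategory.Q.obj I)) : DCoh.IsQCohD (DerivedCategory.Q.obj J) := fun i =>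
  QC.isQCoh_of_iso (((DerivedCategory.homologyFunctorFactors X'.Modules i).app J).symm)
    (QC.isQCoh_of_iso (((I.sc i).mapHomologyIso (Scheme.Modules.pullback g')).symm ≪≫
      asIso (HomologicalComplex.homologyMap s i))
      (QC.isQCoh_pullback g' (QC.isQCoh_of_iso ((DerivedCategory.homologyFunctorFactors X.Modules i).app I) (hI i))))

variable [Flat g] [QuasiCompact f] [QuasiSeparated f]

/-- the base change map on representatives -/
noncomputable def bcMap (w : g' ≫ f = f' ≫ g) {I : CochainComplex X.Modules ℤ} {J : CochainComplex X'.Modules ℤ}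
    (s : ((Scheme.Modules.pullback g').mapHomologicalComplex (ComplexShape.up ℤ)).obj I ⟶ J) :
    ((Scheme.Modules.pullback g).mapHomologicalComplex (ComplexShape.up ℤ)).obj
        (((Scheme.Modules.pushforward f).mapHomologicalComplex (ComplexShape.up ℤ)).obj I) ⟶
      ((Scheme.Modules.pushforward f').mapHomologicalComplex (ComplexShape.up ℤ)).obj J :=
  cmp s (sigma w)

/-- flat base change at the level of complexes -/
theorem quasiIso_bcMap (H : IsPullback g' f' f g) {I : CochainComplex X.Modules ℤ} {J : CochainComplex X'.Modules ℤ}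
    (s : ((Scheme.Modules.pullback g').mapHomologicalComplex (ComplexShape.up ℤ)).obj I ⟶ J)
    [I.IsKInjective] [J.IsKInjective] (hIi : ∀ n, Injective (I.X n)) (hJi : ∀ n, Injective (J.X n))
    (hI : DCoh.IsQCohD (DerivedCategory.Q.obj I)) [QuasiIso s] : QuasiIso (bcMap H.w s) := by
  haveI : Flat g' := MorphismProperty.of_isPullback H.flip ‹Flat g›
  haveI : QuasiCompact f' := MorphismProperty.of_isPullback H ‹QuasiCompact f›
  haveI : QuasiSeparated f' := MorphismProperty.of_isPullback H ‹QuasiSeparated f›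
  haveI := DerPush.hasRpush_sch f
  haveI := DerPush.hasRpush_sch f'
  haveI := KFlat.hasLpull f
  haveI := KFlat.hasLpull f'
  have hJ := isQCohD_pull s hI
  have hInj : ∀ n, RPushQC.IsFlasque (I.X n) := fun n => haveI := hIi n; RPushQC.isFlasque_of_injective _
  have hJinj : ∀ n, RPushQC.IsFlasque (J.X n) := fun n => haveI := hJi n; RPushQC.isFlasque_of_injective _
  let P := Scheme.Modules.pullback g
  let I₁ := ((Scheme.Modules.pushforward f).mapHomologicalComplex (ComplexShape.up ℤ)).obj I
  let J₁ := ((Scheme.Modules.pushforward f').mapHomologicalComplex (ComplexShape.up ℤ)).obj J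
  let u : (P.mapHomologicalComplex (ComplexShape.up ℤ)).obj I₁ ⟶ J₁ := bcMap H.w s
  rw [quasiIso_iff]
  intro i
  rw [quasiIsoAt_iff_isIso_homologyMap]
  let S₁ := I₁.sc i
  let σ : S₁.map P ⟶ J₁.sc i := (HomologicalComplex.shortComplexFunctor S'.Modules (ComplexShape.up ℤ) i).map u
  change IsIso (ShortComplex.homologyMap σ)
  have hqI : Coh.IsQCoh S₁.homology := QC.isQCoh_of_iso
    ((DerivedCategory.homologyFunctorFactors S.Modules i).app I₁) (isQCohD_push (f := f) I hI i)
  have main : ∀ (V : S.Opens) (W : S'.Opens), IsAffineOpen V → IsAffineOpen W → W ≤ g ⁻¹ᵁ V →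
      Function.Bijective ((ShortComplex.homologyMap σ).app W) := by
    intro V W hV hW' hW
    let φ := (g.appLE V W hW).hom
    haveI := ModuleCat.preservesFiniteLimits_extendScalars_of_flat (f := φ) (g.flat_appLE hV hW' hW)
    haveI : PreservesFiniteColimits (ModuleCat.extendScalars.{u, u, u} φ) :=
      haveI := (ModuleCat.extendRestrictScalarsAdj.{u, u, u} φ).leftAdjoint_preservesColimits.{0, 0}
      inferInstance
    let E := ModuleCat.extendScalars.{u, u, u} φ
    let G := secF W (RingHom.id Γ(S', W))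
    let F := secF V (RingHom.id Γ(S, V))
    haveI : PreservesFiniteLimits (F ⋙ E) := comp_preservesFiniteLimits _ _
    haveI : PreservesFiniteLimits (P ⋙ G) := comp_preservesFiniteLimits _ _
    let μ₁ := mu g hW (id_comm hW)
    haveI : IsIso (kap (F ⋙ E) S₁) :=
      haveI : IsIso (kap F S₁) := isIso_kap_secF V _ _
        (lifts_push f I (fun J _ h => isQCohD_push (f := f) J h) hI V hV i)
      isIso_kap_comp_right F E S₁
    haveI : IsIso (kap G (J₁.sc i)) := isIso_kap_secF W _ _
      (lifts_push f' J (fun J _ h => isQCohD_push (f := f') J h) hJ W hW' i)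
    haveI : IsIso (CommRingCat.ofHom (RingHom.id Γ(S, V))) := (inferInstance : IsIso (𝟙 Γ(S, V)))
    haveI : IsIso (CommRingCat.ofHom (RingHom.id Γ(S', W))) := (inferInstance : IsIso (𝟙 Γ(S', W)))
    haveI : IsIso (μ₁.app S₁.homology) :=
      isIso_mu g hW (id_comm hW) hV hW' _ hqI
        (IsPushout.of_vert_isIso ⟨rfl⟩ : IsPushout (CommRingCat.ofHom φ) (CommRingCat.ofHom (RingHom.id Γ(S, V)))
          (CommRingCat.ofHom (RingHom.id Γ(S', W))) (g.appLE V W hW))
    -- comparison with the sections of `I` and `J`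
    haveI hq : QuasiIso (cmp u μ₁) := by
      let pw := secPush f (V := V) (U := f ⁻¹ᵁ V) (ρ' := rhoX f V (f ⁻¹ᵁ V) le_rfl) (ρ := RingHom.id Γ(S, V)) le_rfl (RingHom.comp_id _)
      let a := Functor.whiskerRight pw E
      let b := secPush f' (ρ' := rhoX' g' f' W (f ⁻¹ᵁ V)) (V := W) (U := pre g' f' W (f ⁻¹ᵁ V)) (ρ := RingHom.id Γ(S', W)) (pre_eq H).1 (RingHom.comp_id _)
      let μ' : (Scheme.Modules.pushforward f ⋙ F) ⋙ E ⟶
          Scheme.Modules.pullback g' ⋙ (Scheme.Modules.pushforward f' ⋙ G) :=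
        Functor.whiskerLeft (Scheme.Modules.pushforward f) μ₁ ≫ Functor.whiskerRight (sigma H.w) G
      have hh : μ' ≫ Functor.whiskerLeft (Scheme.Modules.pullback g') b = a ≫ muU H hW (f ⁻¹ᵁ V) le_rfl :=
        sigma_muU H hW
      have hc : cmp s μ' ≫ (NatTrans.mapHomologicalComplex b (ComplexShape.up ℤ)).app J =
          (NatTrans.mapHomologicalComplex a (ComplexShape.up ℤ)).app I ≫ cmp s (muU H hW (f ⁻¹ᵁ V) le_rfl) :=
        cmp_comm (Scheme.Modules.pullback g') s μ' (muU H hW (f ⁻¹ᵁ V) le_rfl) a b hh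
      haveI := quasiIso_compact H hW s hI hJ hInj hJinj hV hW'
        (f.isQuasiSeparated_preimage hV.isQuasiSeparated) (f ⁻¹ᵁ V) le_rfl (f.isCompact_preimage hV.isCompact)
      haveI : IsIso ((NatTrans.mapHomologicalComplex a (ComplexShape.up ℤ)).app I) := by
        haveI : ∀ n, IsIso (((NatTrans.mapHomologicalComplex a (ComplexShape.up ℤ)).app I).f n) := fun n =>
          haveI : IsIso (pw.app (I.X n)) := isIso_secPush_app f le_rfl _ le_rfl (I.X n)
          (inferInstance : IsIso (E.map (pw.app (I.X n))))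
        exact HomologicalComplex.Hom.isIso_of_components _
      haveI : IsIso ((NatTrans.mapHomologicalComplex b (ComplexShape.up ℤ)).app J) := by
        haveI : ∀ n, IsIso (((NatTrans.mapHomologicalComplex b (ComplexShape.up ℤ)).app J).f n) := fun n =>
          isIso_secPush_app f' (pre_eq H).1 (RingHom.comp_id _) ((pre_eq H).2 hW) (J.X n)
        exact HomologicalComplex.Hom.isIso_of_components _
      have h2 : QuasiIso (cmp s μ') := by
        haveI : QuasiIso (cmp s μ' ≫ (NatTrans.mapHomologicalComplex b (ComplexShape.up ℤ)).app J) := by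
          rw [hc]; infer_instance
        exact quasiIso_of_comp_right (cmp s μ') ((NatTrans.mapHomologicalComplex b (ComplexShape.up ℤ)).app J)
      have e : cmp u μ₁ = cmp s μ' := by
        ext n : 1
        exact (congrArg (μ₁.app _ ≫ ·) (G.map_comp _ _)).trans (Category.assoc _ _ _).symm
      rw [e]
      exact h2
    haveI : IsIso (HomologicalComplex.homologyMap (cmp u μ₁) i) := (quasiIsoAt_iff_isIso_homologyMap _ _).1 (hq.quasiIsoAt i)
    have key := homology_cmp P u μ₁ i
    haveI : IsIso (kap (F ⋙ E) S₁ ≫ μ₁.app S₁.homology ≫ G.map ((S₁.mapHomologyIso P).inv ≫ ShortComplex.homologyMap σ)) := by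
      rw [← key]; infer_instance
    haveI : IsIso (μ₁.app S₁.homology ≫ G.map ((S₁.mapHomologyIso P).inv ≫ ShortComplex.homologyMap σ)) :=
      IsIso.of_isIso_comp_left (kap (F ⋙ E) S₁) _
    haveI := IsIso.of_isIso_comp_left (μ₁.app S₁.homology) (G.map ((S₁.mapHomologyIso P).inv ≫ ShortComplex.homologyMap σ))
    haveI : IsIso (G.map (ShortComplex.homologyMap σ)) := by
      have h := G.map_comp (S₁.mapHomologyIso P).inv (ShortComplex.homologyMap σ)
      exact IsIso.of_isIso_fac_left h.symm
    exact ConcreteCategory.bijective_of_isIso (G.map (ShortComplex.homologyMap σ))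
  have hcov : ∀ y : S', ∃ (V : S.Opens) (W : S'.Opens), IsAffineOpen V ∧ IsAffineOpen W ∧ W ≤ g ⁻¹ᵁ V ∧ y ∈ W := fun y => by
    obtain ⟨_, ⟨(V : S.Opens), hV, rfl⟩, hyV, -⟩ :=
      S.isBasis_affineOpens.exists_subset_of_mem_open (Set.mem_univ (g.base y)) isOpen_univ
    obtain ⟨_, ⟨(W : S'.Opens), hW, rfl⟩, hyW, hWV⟩ :=
      S'.isBasis_affineOpens.exists_subset_of_mem_open (show y ∈ g ⁻¹ᵁ V from hyV) (g ⁻¹ᵁ V).isOpen
    exact ⟨V, W, hV, hW, hWV, hyW⟩
  choose V W hV hW hWV hyW using hcov
  refine QC.isIso_of_restrict_cover (fun y => (W y).ι) (fun y => ⟨y, ⟨⟨y, hyW y⟩, rfl⟩⟩) _ fun y => ?_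
  exact DQPush.isIso_of_bijective_affine _ fun U hU =>
    main (V y) ((W y).ι ''ᵁ U) (hV y) (hU.image_of_isOpenImmersion (W y).ι)
      (((W y).ι_image_le U).trans (hWV y))

end Groth.Agent.FlatBCD
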