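import Groth.Agent.FlatBCD.Kappa
import Groth.Agent.FlatBCD.Sections
import Groth.Agent.DQCoh.Affine

/-!
Homology of sections of K-injective complexes over affine opens.
-/

set_option autoImplicit false
set_option backward.isDefEq.respectTransparency false
set_option backward.isDefEq.respectTransparency.types false
set_option linter.style.haveILetI false

universe u

open CategoryTheory CategoryTheory.Limits AlgebraicGeometry TopologicalSpace Opposite

attribute [local instance] HasDerivedCategory.standard

namespace Groth.Agent.FlatBCD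

variable {X : Scheme.{u}} {A : Type u} [CommRing A]

/-- if maps out of the free module on `U` lift, the comparison map of sections is bijective -/
theorem isIso_kap_secF (U : X.Opens) (ρ : A →+* Γ(X, U)) (S : ShortComplex X.Modules)
    (hS : DQCoh.Lifts ((HDU.modData X.sheaf).P U) S) : IsIso (kap (secF U ρ) S) := by
  let D := HDU.modData X.sheaf
  let G := secF U ρ
  rw [ConcreteCategory.isIso_iff_bijective]
  have hπ : ∀ c, kap G S ((S.map G).homologyπ c) = G.map S.homologyπ ((gam G S).hom c) := fun c =>
    ConcreteCategory.congr_hom (π_kap G S) c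
  have hsurjπ : Function.Surjective (S.map G).homologyπ := (ModuleCat.epi_iff_surjective _).1 inferInstance
  have hgam : Function.Bijective (gam G S).hom := ConcreteCategory.bijective_of_isIso _
  refine ⟨(injective_iff_map_eq_zero _).2 fun x hx => ?_, fun y => ?_⟩
  · obtain ⟨c, rfl⟩ := hsurjπ x
    rw [hπ] at hx
    let f : D.P U ⟶ S.cycles := (D.sec U S.cycles).symm ((gam G S).hom c)
    have hf : f ≫ S.homologyπ = 0 := by
      apply (D.sec U S.homology).injective
      refine (D.sec_comp f S.homologyπ).trans (Eq.trans ?_ (map_zero _).symm)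
      erw [AddEquiv.apply_symm_apply]
      exact hx
    obtain ⟨h, hh⟩ := hS.2 f hf
    have hh' : h ≫ S.toCycles = f := by rw [← cancel_mono S.iCycles, Category.assoc, S.toCycles_i, hh]
    have h1 : G.map S.toCycles (D.sec U S.X₁ h) = (gam G S).hom c := by
      refine (D.sec_comp h S.toCycles).symm.trans ?_
      erw [hh']
      exact (D.sec U S.cycles).apply_symm_apply _
    have h2 : (S.map G).toCycles ≫ (gam G S).hom = G.map S.toCycles := by
      rw [← cancel_mono (G.map S.iCycles), Category.assoc, gam_hom_i, ← G.map_comp, S.toCycles_i]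
      exact (S.map G).toCycles_i
    have h3 : (S.map G).toCycles (D.sec U S.X₁ h) = c :=
      hgam.1 ((ConcreteCategory.congr_hom h2 (D.sec U S.X₁ h)).trans h1)
    rw [← h3]
    exact ConcreteCategory.congr_hom (S.map G).toCycles_comp_homologyπ (D.sec U S.X₁ h)
  · obtain ⟨f, hf⟩ := hS.1 ((D.sec U S.homology).symm y)
    obtain ⟨c, hc⟩ := hgam.2 (D.sec U S.cycles f)
    refine ⟨(S.map G).homologyπ c, ?_⟩
    rw [hπ, hc]
    refine (D.sec_comp f S.homologyπ).symm.trans ?_
    erw [hf]
    exact (D.sec U S.homology).apply_symm_apply y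

/-- homology of sections of K-injective complexes over affine opens -/
theorem isIso_kap_kInjective (U : X.Opens) (hU : IsAffineOpen U) (ρ : A →+* Γ(X, U))
    (I : CochainComplex X.Modules ℤ) [I.IsKInjective]
    (hI : DCoh.IsQCohD (DerivedCategory.Q.obj I)) (i : ℤ) : IsIso (kap (secF U ρ) (I.sc i)) :=
  isIso_kap_secF U ρ _ (DQCoh.lifts_deg I hI U hU i)

end Groth.Agent.FlatBCD
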