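import Groth.Agent.FlatBCD.MV
import Groth.Agent.FlatBCD.KappaSec
import Groth.Agent.AdeqLib.QcqsInd
import Groth.Agent.RelPCS.FlatBase

/-!
Flat base change for sections of K-injective complexes with quasi-coherent cohomology.
-/

set_option autoImplicit false
set_option backward.isDefEq.respectTransparency false
set_option backward.isDefEq.respectTransparency.types false
set_option linter.style.haveILetI false
set_option linter.unusedSectionVars false

universe u

open CategoryTheory CategoryTheory.Limits AlgebraicGeometry TopologicalSpace Opposite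

attribute [local instance] HasDerivedCategory.standard

namespace Groth.Agent.FlatBCD

variable {X S X' S' : Scheme.{u}} {f : X ⟶ S} {g : S' ⟶ S} {g' : X' ⟶ X} {f' : X' ⟶ S'}

instance additive_extendScalars {A B : Type u} [CommRing A] [CommRing B] (φ : A →+* B) :
    (ModuleCat.extendScalars.{u, u, u} φ).Additive :=
  (ModuleCat.extendRestrictScalarsAdj.{u, u, u} φ).left_adjoint_additive

variable (g' f') in
/-- the preimage of `U` over `W` -/
def pre (W : S'.Opens) (U : X.Opens) : X'.Opens := g' ⁻¹ᵁ U ⊓ f' ⁻¹ᵁ W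

variable (f) in
/-- functions on the base on an open -/
abbrev rhoX (V : S.Opens) (U : X.Opens) (hU : U ≤ f ⁻¹ᵁ V) : Γ(S, V) →+* Γ(X, U) := (f.appLE V U hU).hom

variable (g' f') in
/-- functions on the base on a preimage -/
abbrev rhoX' (W : S'.Opens) (U : X.Opens) : Γ(S', W) →+* Γ(X', pre g' f' W U) :=
  (f'.appLE W (pre g' f' W U) inf_le_right).hom

variable (H : IsPullback g' f' f g) {V : S.Opens} {W : S'.Opens} (hW : W ≤ g ⁻¹ᵁ V)

include H in
lemma rho_comm (U : X.Opens) (hU : U ≤ f ⁻¹ᵁ V) :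
    (g'.appLE U (pre g' f' W U) inf_le_left).hom.comp (rhoX f V U hU) =
      (rhoX' g' f' W U).comp (g.appLE V W hW).hom := by
  rw [← CommRingCat.hom_comp, ← CommRingCat.hom_comp, Scheme.Hom.appLE_comp_appLE, Scheme.Hom.appLE_comp_appLE]
  simp only [H.w]

lemma rho_res {U U₁ : X.Opens} (h : U₁ ≤ U) (hU : U ≤ f ⁻¹ᵁ V) :
    (X.presheaf.map (homOfLE h).op).hom.comp (rhoX f V U hU) = rhoX f V U₁ (h.trans hU) := by
  rw [← CommRingCat.hom_comp, Scheme.Hom.appLE_map]

lemma rho_res' {U U₁ : X.Opens} (h : pre g' f' W U₁ ≤ pre g' f' W U) :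
    (X'.presheaf.map (homOfLE h).op).hom.comp (rhoX' g' f' W U) = rhoX' g' f' W U₁ := by
  rw [← CommRingCat.hom_comp, Scheme.Hom.appLE_map]

/-- `B ⊗ Γ(U, -) ⟶ Γ(U', g'^* -)` -/
noncomputable abbrev muU (U : X.Opens) (hU : U ≤ f ⁻¹ᵁ V) :
    secF U (rhoX f V U hU) ⋙ ModuleCat.extendScalars.{u, u, u} (g.appLE V W hW).hom ⟶
      Scheme.Modules.pullback g' ⋙ secF (pre g' f' W U) (rhoX' g' f' W U) :=
  mu g' inf_le_left (rho_comm H hW U hU)

variable {I : CochainComplex X.Modules ℤ} {J : CochainComplex X'.Modules ℤ}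
  (s : ((Scheme.Modules.pullback g').mapHomologicalComplex (ComplexShape.up ℤ)).obj I ⟶ J)

variable [Flat g]

/-- affine pieces -/
theorem quasiIso_affine [Flat g'] [I.IsKInjective] [J.IsKInjective] (hI : DCoh.IsQCohD (DerivedCategory.Q.obj I))
    (hJ : DCoh.IsQCohD (DerivedCategory.Q.obj J)) [QuasiIso s] (hV : IsAffineOpen V) (hW' : IsAffineOpen W)
    (U : X.Opens) (hU : U ≤ f ⁻¹ᵁ V) (hUa : IsAffineOpen U) : QuasiIso (cmp s (muU H hW U hU)) := by
  let φ := (g.appLE V W hW).hom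
  haveI := ModuleCat.preservesFiniteLimits_extendScalars_of_flat (f := φ) (g.flat_appLE hV hW' hW)
  haveI : PreservesFiniteColimits (ModuleCat.extendScalars.{u, u, u} φ) :=
    haveI := (ModuleCat.extendRestrictScalarsAdj.{u, u, u} φ).leftAdjoint_preservesColimits.{0, 0}
    inferInstance
  let F₀ := secF U (rhoX f V U hU)
  let E := ModuleCat.extendScalars.{u, u, u} φ
  let P := Scheme.Modules.pullback g'
  let G := secF (pre g' f' W U) (rhoX' g' f' W U)
  haveI : PreservesFiniteLimits (F₀ ⋙ E) := comp_preservesFiniteLimits _ _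
  haveI : PreservesFiniteLimits (P ⋙ G) := comp_preservesFiniteLimits _ _
  let μ := muU H hW U hU
  have hU'a : IsAffineOpen (pre g' f' W U) :=
    haveI : IsAffine V.toScheme := hV
    haveI : IsAffine W.toScheme := hW'
    haveI : IsAffine U.toScheme := hUa
    .of_isIso (Scheme.Hom.isPullback_resLE H hW hU (rfl : pre g' f' W U = g' ⁻¹ᵁ U ⊓ f' ⁻¹ᵁ W)).isoPullback.hom
  have hpo := (isIso_pushoutSection_iff H hW hU (rfl : pre g' f' W U = g' ⁻¹ᵁ U ⊓ f' ⁻¹ᵁ W)).1
    (isIso_pushoutSection_of_isAffineOpen H hW hU rfl hV hW' hUa)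
  rw [quasiIso_iff]
  intro i
  rw [quasiIsoAt_iff_isIso_homologyMap]
  let S₀ := I.sc i
  let σ : S₀.map P ⟶ J.sc i := (HomologicalComplex.shortComplexFunctor X'.Modules (ComplexShape.up ℤ) i).map s
  haveI : IsIso (ShortComplex.homologyMap σ) :=
    (inferInstance : IsIso (HomologicalComplex.homologyMap s i))
  haveI : IsIso (kap (F₀ ⋙ E) S₀) :=
    haveI := isIso_kap_kInjective U hUa (rhoX f V U hU) I hI i
    isIso_kap_comp_right F₀ E S₀
  haveI : IsIso (kap G (J.sc i)) := isIso_kap_kInjective _ hU'a _ J hJ i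
  have hHq : Coh.IsQCoh S₀.homology :=
    QC.isQCoh_of_iso ((DerivedCategory.homologyFunctorFactors X.Modules i).app I) (hI i)
  haveI : IsIso (μ.app S₀.homology) :=
    isIso_mu g' inf_le_left (rho_comm H hW U hU) hUa hU'a _ hHq hpo.flip
  have e : HomologicalComplex.homologyMap (cmp s μ) i =
      ShortComplex.homologyMap (S₀.mapNatTrans μ) ≫ ShortComplex.homologyMap (G.mapShortComplex.map σ) := by
    rw [← ShortComplex.homologyMap_comp]
    rfl
  have key : HomologicalComplex.homologyMap (cmp s μ) i ≫ kap G (J.sc i) =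
      kap (F₀ ⋙ E) S₀ ≫ μ.app S₀.homology ≫ G.map ((S₀.mapHomologyIso P).inv ≫ ShortComplex.homologyMap σ) := by
    rw [e, Category.assoc, kap_naturality, ← kap_natTrans_assoc μ S₀, kap_comp_left G P S₀, Category.assoc,
      ← G.map_comp, Iso.hom_inv_id_assoc]
  haveI : IsIso (HomologicalComplex.homologyMap (cmp s μ) i ≫ kap G (J.sc i)) := by rw [key]; infer_instance
  exact IsIso.of_isIso_comp_right _ (kap G (J.sc i))

/-- the gluing step -/
theorem quasiIso_sup (hInj : ∀ n, RPushQC.IsFlasque (I.X n)) (hJinj : ∀ n, RPushQC.IsFlasque (J.X n))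
    (hV : IsAffineOpen V) (hW' : IsAffineOpen W)
    (U₁ U₂ : X.Opens) (h₁ : U₁ ≤ f ⁻¹ᵁ V) (h₂ : U₂ ≤ f ⁻¹ᵁ V)
    (q₁ : QuasiIso (cmp s (muU H hW U₁ h₁))) (q₂ : QuasiIso (cmp s (muU H hW U₂ h₂)))
    (q₁₂ : QuasiIso (cmp s (muU H hW (U₁ ⊓ U₂) (inf_le_left.trans h₁)))) :
    QuasiIso (cmp s (muU H hW (U₁ ⊔ U₂) (sup_le h₁ h₂))) := by
  let φ := (g.appLE V W hW).hom
  haveI := ModuleCat.preservesFiniteLimits_extendScalars_of_flat (f := φ) (g.flat_appLE hV hW' hW)
  haveI : PreservesFiniteColimits (ModuleCat.extendScalars.{u, u, u} φ) :=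
    haveI := (ModuleCat.extendRestrictScalarsAdj.{u, u, u} φ).leftAdjoint_preservesColimits.{0, 0}
    inferInstance
  let E := ModuleCat.extendScalars.{u, u, u} φ
  let P := Scheme.Modules.pullback g'
  let pr := pre g' f' W
  have hmono : ∀ {a b : X.Opens}, a ≤ b → pr a ≤ pr b := fun h => inf_le_inf_right _ (g'.preimage_mono h)
  let T := U₁ ⊔ U₂
  let R := U₁ ⊓ U₂
  have hT : T ≤ f ⁻¹ᵁ V := sup_le h₁ h₂
  let rU := secRes (le_sup_left : U₁ ≤ T) (rho_res le_sup_left hT)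
  let rV := secRes (le_sup_right : U₂ ≤ T) (rho_res le_sup_right hT)
  let rPU := secRes (inf_le_left : R ≤ U₁) (rho_res inf_le_left h₁)
  let rPV : secF U₂ (rhoX f V U₂ h₂) ⟶ secF R (rhoX f V R (inf_le_left.trans h₁)) :=
    secRes (inf_le_right : R ≤ U₂) (rho_res inf_le_right h₂)
  let rU' := secRes (hmono (le_sup_left : U₁ ≤ T)) (rho_res' (hmono le_sup_left))
  let rV' := secRes (hmono (le_sup_right : U₂ ≤ T)) (rho_res' (hmono le_sup_right))
  let rPU' := secRes (hmono (inf_le_left : R ≤ U₁)) (rho_res' (hmono inf_le_left))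
  let rPV' := secRes (hmono (inf_le_right : R ≤ U₂)) (rho_res' (hmono inf_le_right))
  let SA : ShortComplex (X.Modules ⥤ ModuleCat Γ(S, V)) :=
    mvF (le_sup_left : U₁ ≤ T) le_sup_right (inf_le_left : R ≤ U₁) inf_le_right
      (rho_res le_sup_left hT) (rho_res le_sup_right hT) (rho_res inf_le_left h₁) (rho_res inf_le_right h₂)
  let SB : ShortComplex (X'.Modules ⥤ ModuleCat Γ(S', W)) :=
    mvF (hmono (le_sup_left : U₁ ≤ T)) (hmono le_sup_right) (hmono (inf_le_left : R ≤ U₁)) (hmono inf_le_right)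
      (rho_res' (hmono le_sup_left)) (rho_res' (hmono le_sup_right)) (rho_res' (hmono inf_le_left))
      (rho_res' (hmono inf_le_right))
  haveI : SA.X₁.Additive := inferInstanceAs (secF _ _).Additive
  haveI : SA.X₂.Additive := additive_biprod _ _
  haveI : SA.X₃.Additive := inferInstanceAs (secF _ _).Additive
  haveI : SB.X₁.Additive := inferInstanceAs (secF _ _).Additive
  haveI : SB.X₂.Additive := additive_biprod _ _
  haveI : SB.X₃.Additive := inferInstanceAs (secF _ _).Additive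
  let c := ComplexShape.up ℤ
  let SI : ShortComplex (CochainComplex (ModuleCat Γ(S', W)) ℤ) :=
    ShortComplex.mk ((NatTrans.mapHomologicalComplex (Functor.whiskerRight SA.f E) c).app I)
      ((NatTrans.mapHomologicalComplex (Functor.whiskerRight SA.g E) c).app I)
      (HomologicalComplex.hom_ext _ _ fun n =>
        (E.map_comp _ _).symm.trans ((congrArg E.map (congr_app SA.zero (I.X n))).trans (E.map_zero _ _)))
  let SJ : ShortComplex (CochainComplex (ModuleCat Γ(S', W)) ℤ) :=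
    ShortComplex.mk ((NatTrans.mapHomologicalComplex SB.f c).app J) ((NatTrans.mapHomologicalComplex SB.g c).app J)
      (HomologicalComplex.hom_ext _ _ fun n => congr_app SB.zero (J.X n))
  have hSI : SI.ShortExact := HomologicalComplex.shortExact_of_degreewise_shortExact _ fun n =>
    ((mvF_shortExact (le_refl T) (le_refl R) (I.X n) (hInj n)).map_of_exact E : _)
  have hSJ : SJ.ShortExact := HomologicalComplex.shortExact_of_degreewise_shortExact _ fun n =>
    (mvF_shortExact (show pr T ≤ pr U₁ ⊔ pr U₂ from fun x hx => (show x ∈ g' ⁻¹ᵁ U₁ ∨ x ∈ g' ⁻¹ᵁ U₂ from hx.1).imp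
      (fun h => ⟨h, hx.2⟩) fun h => ⟨h, hx.2⟩)
      (show pr U₁ ⊓ pr U₂ ≤ pr R from fun x hx => ⟨⟨hx.1.1, hx.2.1⟩, hx.1.2⟩) (J.X n) (hJinj n) : _)
  let μ₁ := muU H hW U₁ h₁
  let μ₂ := muU H hW U₂ h₂
  let μT := muU H hW T hT
  let μR := muU H hW R (inf_le_left.trans h₁)
  let p₁ := Functor.whiskerRight (biprod.fst : SA.X₂ ⟶ secF U₁ (rhoX f V U₁ h₁)) E
  let p₂ := Functor.whiskerRight (biprod.snd : SA.X₂ ⟶ secF U₂ (rhoX f V U₂ h₂)) E
  let i₁ := Functor.whiskerRight (biprod.inl : secF U₁ (rhoX f V U₁ h₁) ⟶ SA.X₂) E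
  let i₂ := Functor.whiskerRight (biprod.inr : secF U₂ (rhoX f V U₂ h₂) ⟶ SA.X₂) E
  let μm : SA.X₂ ⋙ E ⟶ P ⋙ SB.X₂ := mid E P μ₁ μ₂
  have qm : QuasiIso (cmp s μm) := quasiIso_cmp_of_sum P s μm μ₁ μ₂ p₁ p₂ i₁ i₂
    biprod.fst biprod.snd biprod.inl biprod.inr (total_mid E) biprod.total
    (mid_fst E P μ₁ μ₂) (mid_snd E P μ₁ μ₂) (inl_mid E P μ₁ μ₂) (inr_mid E P μ₁ μ₂) q₁ q₂
  have comm₁ : μT ≫ Functor.whiskerLeft P SB.f = Functor.whiskerRight SA.f E ≫ μm :=
    lift_mid E P μT μ₁ μ₂ rU rV rU' rV'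
      (mu_res g' _ _ (le_sup_left : U₁ ≤ T) (hmono le_sup_left) _ _ (rho_res le_sup_left hT) (rho_res' (hmono le_sup_left)))
      (mu_res g' _ _ (le_sup_right : U₂ ≤ T) (hmono le_sup_right) _ _ (rho_res le_sup_right hT) (rho_res' (hmono le_sup_right)))
  have hn : μ₂ ≫ Functor.whiskerLeft P (-rPV') = Functor.whiskerRight (-rPV) E ≫ μR := by
    have h := mu_res g' _ _ (inf_le_right : R ≤ U₂) (hmono inf_le_right) (rho_comm H hW U₂ h₂)
      (rho_comm H hW R (inf_le_left.trans h₁)) (rho_res inf_le_right h₂) (rho_res' (hmono inf_le_right))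
    ext M : 2
    simp only [NatTrans.comp_app, Functor.whiskerLeft_app, Functor.whiskerRight_app, NatTrans.app_neg,
      Preadditive.comp_neg, Functor.map_neg, Preadditive.neg_comp]
    exact congrArg (fun z => -z) (congr_app h M)
  have comm₂ : μm ≫ Functor.whiskerLeft P SB.g = Functor.whiskerRight SA.g E ≫ μR :=
    desc_mid E P μ₁ μ₂ μR rPU (-rPV) rPU' (-rPV')
      (mu_res g' _ _ (inf_le_left : R ≤ U₁) (hmono inf_le_left) _ _ (rho_res inf_le_left h₁) (rho_res' (hmono inf_le_left))) hn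
  let τ : SI ⟶ SJ :=
    { τ₁ := cmp s μT
      τ₂ := cmp s μm
      τ₃ := cmp s μR
      comm₁₂ := cmp_comm P s μT μm _ _ comm₁
      comm₂₃ := cmp_comm P s μm μR _ _ comm₂ }
  exact FilKInj.quasiIso_τ₁ τ hSI hSJ qm q₁₂

/-- all quasi-compact opens over an affine open -/
theorem quasiIso_compact [Flat g'] [I.IsKInjective] [J.IsKInjective] (hI : DCoh.IsQCohD (DerivedCategory.Q.obj I))
    (hJ : DCoh.IsQCohD (DerivedCategory.Q.obj J)) (hInj : ∀ n, RPushQC.IsFlasque (I.X n))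
    (hJinj : ∀ n, RPushQC.IsFlasque (J.X n)) [QuasiIso s] (hV : IsAffineOpen V) (hW' : IsAffineOpen W)
    (hqs : IsQuasiSeparated ((f ⁻¹ᵁ V : X.Opens) : Set X))
    (U : X.Opens) (hU : U ≤ f ⁻¹ᵁ V) (hUc : IsCompact (U : Set X)) : QuasiIso (cmp s (muU H hW U hU)) := by
  let Q : X.Opens → Prop := fun U => ∀ hU : U ≤ f ⁻¹ᵁ V, QuasiIso (cmp s (muU H hW U hU))
  have haff : ∀ U, IsAffineOpen U → Q U := fun U hUa hU => quasiIso_affine H hW s hI hJ hV hW' U hU hUa
  have hmv : ∀ U₁ U₂, Q U₁ → Q U₂ → Q (U₁ ⊓ U₂) → Q (U₁ ⊔ U₂) := fun U₁ U₂ q₁ q₂ q hU =>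
    quasiIso_sup H hW s hInj hJinj hV hW' U₁ U₂ (le_sup_left.trans hU) (le_sup_right.trans hU)
      (q₁ _) (q₂ _) (q _)
  suffices Q U from this hU
  revert hU
  refine compact_open_induction_on U hUc (fun _ => haff _ (isAffineOpen_bot X)) fun T hT A hQ hU => ?_
  exact hmv _ _ (hQ (le_sup_left.trans hU)) (haff _ A.2) (AdeqLib.qcqs_in_affine Q haff hmv A.2 _
    (hqs (T : Set X) (A.1 : Set X) (fun x hx => hU (Or.inl hx)) T.2 hT (fun x hx => hU (Or.inr hx)) A.1.2 A.2.isCompact)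
    inf_le_right)

end Groth.Agent.FlatBCD
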