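import Groth.Agent.FlatBCD.Sections
import Mathlib.Algebra.Homology.Additive
import Mathlib.Algebra.Homology.QuasiIso

/-!
Comparison maps of complexes induced by natural transformations `F ⟶ P ⋙ G` and a map
`P I ⟶ J`.
-/

set_option autoImplicit false
set_option backward.isDefEq.respectTransparency false
set_option backward.isDefEq.respectTransparency.types false
set_option linter.style.haveILetI false

universe v₁ v₂ v₃ u₁ u₂ u₃

open CategoryTheory Category Limits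

namespace Groth.Agent.FlatBCD

variable {M : Type u₁} [Category.{v₁} M] [Abelian M] {N : Type u₂} [Category.{v₂} N] [Abelian N]
  {D : Type u₃} [Category.{v₃} D] [Abelian D] (P : M ⥤ N) [P.Additive]
  {I : CochainComplex M ℤ} {J : CochainComplex N ℤ}
  (s : (P.mapHomologicalComplex (ComplexShape.up ℤ)).obj I ⟶ J)

variable {P} in
/-- `F I ⟶ G (P I) ⟶ G J` -/
noncomputable def cmp {F : M ⥤ D} {G : N ⥤ D} [F.Additive] [G.Additive] (μ : F ⟶ P ⋙ G) :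
    (F.mapHomologicalComplex (ComplexShape.up ℤ)).obj I ⟶ (G.mapHomologicalComplex (ComplexShape.up ℤ)).obj J where
  f n := μ.app (I.X n) ≫ G.map (s.f n)
  comm' i j _ := by
    have h := congrArg G.map (s.comm i j)
    simp only [Functor.map_comp, Functor.mapHomologicalComplex_obj_d] at h ⊢
    rw [assoc, h]
    exact (μ.naturality_assoc (I.d i j) _).symm

lemma cmp_comm {F₁ F₂ : M ⥤ D} {G₁ G₂ : N ⥤ D} [F₁.Additive] [G₁.Additive] [F₂.Additive] [G₂.Additive]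
    (μ₁ : F₁ ⟶ P ⋙ G₁) (μ₂ : F₂ ⟶ P ⋙ G₂) (a : F₁ ⟶ F₂) (b : G₁ ⟶ G₂)
    (h : μ₁ ≫ Functor.whiskerLeft P b = a ≫ μ₂) :
    cmp s μ₁ ≫ (NatTrans.mapHomologicalComplex b (ComplexShape.up ℤ)).app J =
      (NatTrans.mapHomologicalComplex a (ComplexShape.up ℤ)).app I ≫ cmp s μ₂ := by
  ext n
  simp only [cmp, HomologicalComplex.comp_f, NatTrans.mapHomologicalComplex_app_f, assoc]
  rw [b.naturality]
  exact congrArg (· ≫ G₂.map (s.f n)) (congr_app h (I.X n)) |> fun e => ((assoc _ _ _).symm.trans e).trans (assoc _ _ _)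

/-- a comparison map between sums is a quasi-isomorphism when the parts are -/
theorem quasiIso_cmp_of_sum {F₁ F₂ F : M ⥤ D} {G₁ G₂ G : N ⥤ D}
    [F₁.Additive] [G₁.Additive] [F₂.Additive] [G₂.Additive] [F.Additive] [G.Additive]
    (μ : F ⟶ P ⋙ G) (μ₁ : F₁ ⟶ P ⋙ G₁) (μ₂ : F₂ ⟶ P ⋙ G₂)
    (p₁ : F ⟶ F₁) (p₂ : F ⟶ F₂) (i₁ : F₁ ⟶ F) (i₂ : F₂ ⟶ F)
    (q₁ : G ⟶ G₁) (q₂ : G ⟶ G₂) (j₁ : G₁ ⟶ G) (j₂ : G₂ ⟶ G)
    (hF : p₁ ≫ i₁ + p₂ ≫ i₂ = 𝟙 F) (hG : q₁ ≫ j₁ + q₂ ≫ j₂ = 𝟙 G)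
    (hp₁ : μ ≫ Functor.whiskerLeft P q₁ = p₁ ≫ μ₁) (hp₂ : μ ≫ Functor.whiskerLeft P q₂ = p₂ ≫ μ₂)
    (hi₁ : μ₁ ≫ Functor.whiskerLeft P j₁ = i₁ ≫ μ) (hi₂ : μ₂ ≫ Functor.whiskerLeft P j₂ = i₂ ≫ μ)
    (h₁ : QuasiIso (cmp s μ₁)) (h₂ : QuasiIso (cmp s μ₂)) : QuasiIso (cmp s μ) := by
  rw [quasiIso_iff]
  intro k
  rw [quasiIsoAt_iff_isIso_homologyMap]
  let H := HomologicalComplex.homologyFunctor D (ComplexShape.up ℤ) k
  let T := fun {A B : M ⥤ D} [A.Additive] [B.Additive] (a : A ⟶ B) =>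
    H.map ((NatTrans.mapHomologicalComplex a (ComplexShape.up ℤ)).app I)
  let T' := fun {A B : N ⥤ D} [A.Additive] [B.Additive] (a : A ⟶ B) =>
    H.map ((NatTrans.mapHomologicalComplex a (ComplexShape.up ℤ)).app J)
  have eF : T p₁ ≫ T i₁ + T p₂ ≫ T i₂ = 𝟙 _ := by
    simp only [T, ← Functor.map_comp, ← Functor.map_add]
    refine (congrArg H.map ?_).trans (H.map_id _)
    ext n
    exact congr_app hF (I.X n)
  have eG : T' q₁ ≫ T' j₁ + T' q₂ ≫ T' j₂ = 𝟙 _ := by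
    simp only [T', ← Functor.map_comp, ← Functor.map_add]
    refine (congrArg H.map ?_).trans (H.map_id _)
    ext n
    exact congr_app hG (J.X n)
  have c : ∀ {A A' : M ⥤ D} {B B' : N ⥤ D} [A.Additive] [A'.Additive] [B.Additive] [B'.Additive]
      (ν : A ⟶ P ⋙ B) (ν' : A' ⟶ P ⋙ B') (a : A ⟶ A') (b : B ⟶ B'),
      ν ≫ Functor.whiskerLeft P b = a ≫ ν' → H.map (cmp s ν) ≫ T' b = T a ≫ H.map (cmp s ν') := by
    intro A A' B B' _ _ _ _ ν ν' a b h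
    simp only [T, T', ← Functor.map_comp]
    exact congrArg H.map (cmp_comm P s ν ν' a b h)
  haveI : IsIso (H.map (cmp s μ₁)) := (quasiIsoAt_iff_isIso_homologyMap _ _).1 (h₁.quasiIsoAt k)
  haveI : IsIso (H.map (cmp s μ₂)) := (quasiIsoAt_iff_isIso_homologyMap _ _).1 (h₂.quasiIsoAt k)
  refine ⟨T' q₁ ≫ inv (H.map (cmp s μ₁)) ≫ T i₁ + T' q₂ ≫ inv (H.map (cmp s μ₂)) ≫ T i₂, ?_, ?_⟩
  · change H.map (cmp s μ) ≫ _ = _
    rw [Preadditive.comp_add, ← assoc (H.map (cmp s μ)), c μ μ₁ p₁ q₁ hp₁,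
      ← assoc (H.map (cmp s μ)), c μ μ₂ p₂ q₂ hp₂]
    simp only [assoc, IsIso.hom_inv_id_assoc]
    exact eF
  · change _ ≫ H.map (cmp s μ) = _
    rw [Preadditive.add_comp]
    simp only [assoc]
    rw [← c μ₁ μ i₁ j₁ hi₁, ← c μ₂ μ i₂ j₂ hi₂]
    simp only [IsIso.inv_hom_id_assoc]
    exact eG

/-- additivity of a functor decomposed into additive ones -/
lemma additive_of_sum {F₁ F₂ F : M ⥤ D} [F₁.Additive] [F₂.Additive]
    (p₁ : F ⟶ F₁) (p₂ : F ⟶ F₂) (i₁ : F₁ ⟶ F) (i₂ : F₂ ⟶ F) (hF : p₁ ≫ i₁ + p₂ ≫ i₂ = 𝟙 F) : F.Additive where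
  map_add {x y} a b := by
    have e : ∀ c : x ⟶ y, F.map c = p₁.app x ≫ F₁.map c ≫ i₁.app y + p₂.app x ≫ F₂.map c ≫ i₂.app y := fun c => by
      rw [← p₁.naturality_assoc, ← p₂.naturality_assoc, ← Preadditive.comp_add]
      exact (comp_id _).symm.trans (congrArg (F.map c ≫ ·) (congr_app hF y).symm)
    rw [e (a + b), e a, e b, Functor.map_add, Functor.map_add]
    simp only [Preadditive.add_comp, Preadditive.comp_add]
    abel

end Groth.Agent.FlatBCD
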