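import Groth.Agent.FlatBCD.Qis
import Groth.Agent.KInj.Ops
import Groth.Prelude.Def_DCoh3

/-!
Flat base change for derived direct images on `D_QCoh`.
-/

set_option autoImplicit false
set_option backward.isDefEq.respectTransparency false
set_option backward.isDefEq.respectTransparency.types false
set_option linter.style.haveILetI false

universe u

open CategoryTheory CategoryTheory.Limits AlgebraicGeometry TopologicalSpace Opposite

attribute [local instance] HasDerivedCategory.standard

namespace Groth.Agent.FlatBCD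

section Generic

variable {C D : Type*} [Category C] [Category D] (F : C ⥤ D)

lemma bijective_map_of_iso {A B B' : C} (c : B ≅ B') (h : Function.Bijective fun m : A ⟶ B => F.map m) :
    Function.Bijective fun m : A ⟶ B' => F.map m := by
  convert ((Iso.homCongr (Iso.refl (F.obj A)) (F.mapIso c)).bijective.comp h).comp
    (Iso.homCongr (Iso.refl A) c).symm.bijective using 1
  funext m
  simp

lemma bijective_comp_of_map {A B B' : C} (σ : B ⟶ B') [IsIso (F.map σ)]
    (h : Function.Bijective fun m : A ⟶ B => F.map m) (h' : Function.Bijective fun m : A ⟶ B' => F.map m) :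
    Function.Bijective fun m : A ⟶ B => m ≫ σ := by
  refine (Function.Bijective.of_comp_iff' h' _).1 ?_
  convert (Iso.homCongr (Iso.refl (F.obj A)) (asIso (F.map σ))).bijective.comp h using 1
  funext m
  simp

lemma bijective_map_comp {A B B' : C} (σ : B ⟶ B') (h : Function.Bijective fun m : A ⟶ B => F.map m)
    (h' : Function.Bijective fun m : A ⟶ B' => F.map m) (hσ : Function.Bijective fun m : A ⟶ B => m ≫ σ)
    {T : D} (e : F.obj A ≅ T) : Function.Bijective fun x : T ⟶ F.obj B => x ≫ F.map σ := by
  have h₂ : Function.Bijective fun x : F.obj A ⟶ F.obj B => x ≫ F.map σ := by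
    refine (Function.Bijective.of_comp_iff _ h).1 ?_
    convert h'.comp hσ using 1
    funext m
    exact (F.map_comp _ _).symm
  convert ((Iso.homCongr e (Iso.refl _)).bijective.comp h₂).comp (Iso.homCongr e (Iso.refl _)).symm.bijective using 1
  funext x
  simp

lemma bijective_comp_adj {G : D ⥤ C} (adj : F ⊣ G) {A : C} {B B' : D} (σ : B ⟶ B')
    (h : Function.Bijective fun m : F.obj A ⟶ B => m ≫ σ) :
    Function.Bijective fun m : A ⟶ G.obj B => m ≫ G.map σ := by
  convert ((adj.homEquiv A B').bijective.comp h).comp (adj.homEquiv A B).symm.bijective using 1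
  funext m
  simp [Adjunction.homEquiv_naturality_right]

end Generic

section Flat

variable {X Y : Scheme.{u}} (f : X ⟶ Y)

/-- direct image on homotopy categories -/
noncomputable abbrev pH : HomotopyCategory X.Modules (ComplexShape.up ℤ) ⥤ HomotopyCategory Y.Modules (ComplexShape.up ℤ) :=
  (Scheme.Modules.pushforward f).mapHomotopyCategory (ComplexShape.up ℤ)

/-- `Lf^*` is computed termwise by a flat map -/
theorem isIso_lpullCounit_of_flat [Flat f] [DCoh.HasLpull f] (K : CochainComplex Y.Modules ℤ) :
    IsIso ((lpullCounit f).app ((HomotopyCategory.quotient Y.Modules (ComplexShape.up ℤ)).obj K)) := by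
  let q := HomotopyCategory.quotient Y.Modules (ComplexShape.up ℤ)
  let P := Scheme.Modules.pullback f
  let w := (KFlat.resψ Y).app K
  haveI := RelPCS.preservesFiniteLimits_pullback f
  haveI : IsIso ((lpullCounit f).app (q.obj ((KFlat.resF Y).obj K))) :=
    KFlat.isIso_app_of_kFlat (KFlat.kFlatAcyclic_pullback f) (DCoh.Lpull f) (lpullCounit f) (KFlat.isKFlat_resF K)
  haveI : IsIso (DerivedCategory.Qh.map (q.map w)) :=
    (NatIso.isIso_map_iff (DerivedCategory.quotientCompQhIso Y.Modules) w).2 inferInstance
  haveI hw : IsIso ((DCoh.pullKh f).map (q.map w)) := by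
    haveI : IsIso (DerivedCategory.Q.map ((P.mapHomologicalComplex (ComplexShape.up ℤ)).map w)) := inferInstance
    exact (NatIso.isIso_map_iff (DerivedCategory.quotientCompQhIso X.Modules)
      ((P.mapHomologicalComplex (ComplexShape.up ℤ)).map w)).2 this
  haveI : IsIso ((DerivedCategory.Qh ⋙ DCoh.Lpull f).map (q.map w)) :=
    inferInstanceAs (IsIso ((DCoh.Lpull f).map (DerivedCategory.Qh.map (q.map w))))
  exact IsIso.of_isIso_fac_left (f := (DerivedCategory.Qh ⋙ DCoh.Lpull f).map (q.map w))
    (h := (lpullCounit f).app (q.obj ((KFlat.resF Y).obj K)) ≫ (DCoh.pullKh f).map (q.map w))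
    ((lpullCounit f).naturality (q.map w))

/-- direct images along flat maps preserve K-injective complexes -/
lemma isKInjective_push [Flat f] (I : CochainComplex X.Modules ℤ) [I.IsKInjective] :
    CochainComplex.IsKInjective
      (((Scheme.Modules.pushforward f).mapHomologicalComplex (ComplexShape.up ℤ)).obj I) := by
  haveI := RelPCS.preservesFiniteLimits_pullback f
  haveI := (Scheme.Modules.pullbackPushforwardAdjunction f).leftAdjoint_preservesColimits.{0, 0}
  exact KInj.isKInjective_rightAdjoint (Scheme.Modules.pullbackPushforwardAdjunction f) I ‹_›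

end Flat

section Square

variable {X S X' S' : Scheme.{u}} {f : X ⟶ S} {g : S' ⟶ S} {g' : X' ⟶ X} {f' : X' ⟶ S'}
  (w : g' ≫ f = f' ≫ g)

/-- `f_* g'_* ≅ g_* f'_*` on homotopy categories -/
noncomputable def bcK : pH g' ⋙ pH f ⟶ pH f' ⋙ pH g where
  app K := (HomotopyCategory.quotient S.Modules (ComplexShape.up ℤ)).map
    ((NatTrans.mapHomologicalComplex (bcC w).hom (ComplexShape.up ℤ)).app K.as)
  naturality := by
    rintro ⟨K⟩ ⟨L⟩ φ
    obtain ⟨φ, rfl⟩ := (HomotopyCategory.quotient X'.Modules (ComplexShape.up ℤ)).map_surjective φ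
    simp only [Functor.comp_map, Functor.mapHomotopyCategory_map]
    exact ((HomotopyCategory.quotient S.Modules (ComplexShape.up ℤ)).map_comp _ _).symm.trans ((congrArg _
      ((NatTrans.mapHomologicalComplex (bcC w).hom (ComplexShape.up ℤ)).naturality φ)).trans
        ((HomotopyCategory.quotient S.Modules (ComplexShape.up ℤ)).map_comp _ _))

lemma isIso_bcK_app (K : HomotopyCategory X'.Modules (ComplexShape.up ℤ)) : IsIso ((bcK w).app K) := by
  haveI : IsIso ((NatTrans.mapHomologicalComplex (bcC w).hom (ComplexShape.up ℤ)).app K.as) := by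
    haveI : ∀ n, IsIso (((NatTrans.mapHomologicalComplex (bcC w).hom (ComplexShape.up ℤ)).app K.as).f n) := fun n =>
      inferInstanceAs (IsIso ((bcC w).hom.app (K.as.X n)))
    exact HomologicalComplex.Hom.isIso_of_components _
  exact inferInstanceAs (IsIso ((HomotopyCategory.quotient S.Modules (ComplexShape.up ℤ)).map _))

variable [DCoh.HasRpush f] [DCoh.HasRpush g] [DCoh.HasRpush f'] [DCoh.HasRpush g']

/-- the comparison with `Rf_* Rg'_*` -/
noncomputable def tau' : pH g' ⋙ DCoh.pushKh f ⟶ DerivedCategory.Qh ⋙ DCoh.Rpush g' ⋙ DCoh.Rpush f :=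
  Functor.whiskerLeft (pH g') (DerPush.rpushUnit f) ≫ (Functor.associator _ _ _).inv ≫
    Functor.whiskerRight (DerPush.rpushUnit g') (DCoh.Rpush f) ≫ (Functor.associator _ _ _).hom

/-- the comparison with `Rg_* Rf'_*` -/
noncomputable def tau'' : pH g' ⋙ DCoh.pushKh f ⟶ DerivedCategory.Qh ⋙ DCoh.Rpush f' ⋙ DCoh.Rpush g :=
  (Functor.associator _ _ _).inv ≫ Functor.whiskerRight (bcK w) DerivedCategory.Qh ≫ (Functor.associator _ _ _).hom ≫
    Functor.whiskerLeft (pH f') (DerPush.rpushUnit g) ≫ (Functor.associator _ _ _).inv ≫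
    Functor.whiskerRight (DerPush.rpushUnit f') (DCoh.Rpush g) ≫ (Functor.associator _ _ _).hom

lemma tau'_app (K : HomotopyCategory X'.Modules (ComplexShape.up ℤ)) :
    (tau' (f := f) (g' := g')).app K =
      (DerPush.rpushUnit f).app ((pH g').obj K) ≫ (DCoh.Rpush f).map ((DerPush.rpushUnit g').app K) := by
  simp only [tau', NatTrans.comp_app, Functor.associator_hom_app, Functor.associator_inv_app,
    Functor.whiskerRight_app, Functor.whiskerLeft_app, Category.id_comp, Category.comp_id]

lemma tau''_app (K : HomotopyCategory X'.Modules (ComplexShape.up ℤ)) :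
    (tau'' w).app K = DerivedCategory.Qh.map ((bcK w).app K) ≫ (DerPush.rpushUnit g).app ((pH f').obj K) ≫
      (DCoh.Rpush g).map ((DerPush.rpushUnit f').app K) := by
  simp only [tau'', NatTrans.comp_app, Functor.associator_hom_app, Functor.associator_inv_app,
    Functor.whiskerRight_app, Functor.whiskerLeft_app, Category.id_comp, Category.comp_id]

include w in
/-- `f'_*` of a K-injective complex computes `Rg_*` -/
theorem isIso_rpushUnit_push [Flat g'] (I : CochainComplex X'.Modules ℤ) [I.IsKInjective] :
    IsIso ((DerPush.rpushUnit g).app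
      ((pH f').obj ((HomotopyCategory.quotient X'.Modules (ComplexShape.up ℤ)).obj I))) := by
  haveI := KFlat.hasLpull g
  haveI := KFlat.hasLpull f
  let q := HomotopyCategory.quotient S'.Modules (ComplexShape.up ℤ)
  let qS := HomotopyCategory.quotient S.Modules (ComplexShape.up ℤ)
  let I' := ((Scheme.Modules.pushforward f').mapHomologicalComplex (ComplexShape.up ℤ)).obj I
  obtain ⟨J, s, hJ, hs⟩ := DerPush.exists_kInj_sch I'
  haveI := isKInjective_push g' I
  haveI hQs : IsIso (DerivedCategory.Qh.map (q.map s)) :=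
    (NatIso.isIso_map_iff (DerivedCategory.quotientCompQhIso S'.Modules) s).2 inferInstance
  let G := pH g
  let σ := G.map (q.map s)
  -- maps from K-flat complexes
  let c := @asIso _ _ _ _ _ (isIso_bcK_app w ((HomotopyCategory.quotient X'.Modules (ComplexShape.up ℤ)).obj I))
  have hbc : ∀ {F : CochainComplex S.Modules ℤ}, DCoh.IsKFlat F →
      Function.Bijective fun m : qS.obj F ⟶ G.obj (q.obj I') => DerivedCategory.Qh.map m :=
    fun hF => bijective_map_of_iso DerivedCategory.Qh c
      (bijective_Qh_push f hF (((Scheme.Modules.pushforward g').mapHomologicalComplex (ComplexShape.up ℤ)).obj I))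
  have hpost : ∀ {F : CochainComplex S.Modules ℤ}, DCoh.IsKFlat F →
      Function.Bijective fun m : qS.obj F ⟶ G.obj (q.obj I') => m ≫ σ := fun hF =>
    haveI := KFlat.hasLpull f'
    bijective_comp_adj _ (adjK g) (q.map s) (bijective_comp_of_map DerivedCategory.Qh (q.map s)
      (bijective_Qh_push f' (KFlat.isKFlat_pullback g hF) I)
      (CochainComplex.IsKInjective.Qh_map_bijective _ J))
  haveI : IsIso (DerivedCategory.Qh.map σ) := by
    refine isIso_of_yoneda_map_bijective _ fun T => ?_
    let K := (DerivedCategory.Q : _ ⥤ DCoh.D S).objPreimage T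
    have hF : DCoh.IsKFlat ((KFlat.resF S).obj K) := KFlat.isKFlat_resF K
    exact bijective_map_comp DerivedCategory.Qh σ (hbc hF) (bijective_Qh_push g hF J) (hpost hF)
      ((DerivedCategory.quotientCompQhIso S.Modules).app _ ≪≫
        asIso (DerivedCategory.Q.map ((KFlat.resψ S).app K)) ≪≫
        (DerivedCategory.Q : _ ⥤ DCoh.D S).objObjPreimageIso T)
  haveI : IsIso ((DerPush.rpushUnit g).app (q.obj J)) := DerPush.isIso_rpushUnit_app g (I := q.obj J) hJ
  have h := (DerPush.rpushUnit g).naturality (q.map s)
  haveI : IsIso ((DCoh.pushKh g).map (q.map s) ≫ (DerPush.rpushUnit g).app (q.obj J)) :=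
    IsIso.comp_isIso' ‹IsIso (DerivedCategory.Qh.map σ)› inferInstance
  haveI : IsIso ((DerivedCategory.Qh ⋙ DCoh.Rpush g).map (q.map s)) :=
    inferInstanceAs (IsIso ((DCoh.Rpush g).map (DerivedCategory.Qh.map (q.map s))))
  exact IsIso.of_isIso_fac_right h.symm

/-- both composites are derived functors of `f_* g'_*` -/
theorem exists_iso [Flat g'] :
    ∃ e : DCoh.Rpush g' ⋙ DCoh.Rpush f ≅ DCoh.Rpush f' ⋙ DCoh.Rpush g,
      tau' (f := f) (g' := g') ≫ Functor.whiskerLeft DerivedCategory.Qh e.hom = tau'' w := by
  let W := HomotopyCategory.quasiIso X'.Modules (ComplexShape.up ℤ)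
  have hdef := KInj.isDeforming_Qh (DerPush.exists_kInj_sch (X := X')) (pH g' ⋙ DCoh.pushKh f)
  haveI := hdef.isRightDerivedFunctor W (DCoh.Rpush g' ⋙ DCoh.Rpush f) (tau' (f := f) (g' := g')) fun I hI => by
    haveI : CochainComplex.IsKInjective I.as := hI
    haveI := DerPush.isIso_rpushUnit_app g' hI
    haveI : IsIso ((DerPush.rpushUnit f).app ((pH g').obj I)) :=
      DerPush.isIso_rpushUnit_app f (I := (pH g').obj I) (isKInjective_push g' I.as)
    rw [tau'_app]
    infer_instance
  haveI := hdef.isRightDerivedFunctor W (DCoh.Rpush f' ⋙ DCoh.Rpush g) (tau'' w) fun I hI => by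
    haveI : CochainComplex.IsKInjective I.as := hI
    haveI := DerPush.isIso_rpushUnit_app f' hI
    haveI : IsIso ((DerPush.rpushUnit g).app ((pH f').obj I)) := isIso_rpushUnit_push w I.as
    haveI := isIso_bcK_app w I
    rw [tau''_app]
    infer_instance
  refine ⟨Functor.rightDerivedNatIso _ _ (tau' (f := f) (g' := g')) (tau'' w) W (Iso.refl _), ?_⟩
  exact (Functor.rightDerivedNatTrans_fac _ _ _ _ W _).trans (Category.id_comp _)

end Square

end Groth.Agent.FlatBCD
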