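import Groth.Agent.FlatBCD.Compare
import Groth.Agent.RPushQC.Resolution
import Groth.Agent.FilKInj.General
import Mathlib.Algebra.Homology.HomologicalComplexAbelian
import Mathlib.CategoryTheory.Abelian.FunctorCategory

/-!
Mayer-Vietoris for comparison maps of sections.
-/

set_option autoImplicit false
set_option backward.isDefEq.respectTransparency false
set_option backward.isDefEq.respectTransparency.types false
set_option linter.style.haveILetI false

universe u

open CategoryTheory CategoryTheory.Limits AlgebraicGeometry TopologicalSpace Opposite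

namespace Groth.Agent.FlatBCD

variable {X X' : Scheme.{u}} {A B : Type u} [CommRing A] [CommRing B]

/-- restriction of sections -/
noncomputable def secRes {U V : X.Opens} (h : V ≤ U) {ρ : A →+* Γ(X, U)} {ρ' : A →+* Γ(X, V)}
    (hρ : (X.presheaf.map (homOfLE h).op).hom.comp ρ = ρ') : secF U ρ ⟶ secF V ρ' where
  app M := ModuleCat.ofHom (X := (secF U ρ).obj M) (Y := (secF V ρ').obj M)
    { toFun := fun m => QC.res M h (show Γ(M, U) from m)
      map_add' := fun a b => map_add (QC.res M h) (show Γ(M, U) from a) (show Γ(M, U) from b)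
      map_smul' := fun r m => by
        refine (QC.res_smul M h (ρ r) (show Γ(M, U) from m)).trans ?_
        exact congrArg (fun c : Γ(X, V) => c • QC.res M h (show Γ(M, U) from m)) (RingHom.congr_fun hρ r) }
  naturality M N a := ModuleCat.hom_ext (LinearMap.ext fun m => QC.app_res a h (show Γ(M, U) from m))

lemma secRes_apply {U V : X.Opens} (h : V ≤ U) {ρ : A →+* Γ(X, U)} {ρ' : A →+* Γ(X, V)}
    (hρ : (X.presheaf.map (homOfLE h).op).hom.comp ρ = ρ') (M : X.Modules) (m : Γ(M, U)) :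
    (secRes h hρ).app M m = QC.res M h m := rfl

/-- restrictions commute with the comparison maps -/
lemma mu_res (g : X' ⟶ X) {U V : X.Opens} {U' V' : X'.Opens} (hU : U' ≤ g ⁻¹ᵁ U) (hV : V' ≤ g ⁻¹ᵁ V)
    (h : V ≤ U) (h' : V' ≤ U') {ρU : A →+* Γ(X, U)} {ρV : A →+* Γ(X, V)}
    {ρU' : B →+* Γ(X', U')} {ρV' : B →+* Γ(X', V')} {φ : A →+* B}
    (hρU : (g.appLE U U' hU).hom.comp ρU = ρU'.comp φ) (hρV : (g.appLE V V' hV).hom.comp ρV = ρV'.comp φ)
    (hr : (X.presheaf.map (homOfLE h).op).hom.comp ρU = ρV)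
    (hr' : (X'.presheaf.map (homOfLE h').op).hom.comp ρU' = ρV') :
    mu g hU hρU ≫ Functor.whiskerLeft (Scheme.Modules.pullback g) (secRes h' hr') =
      Functor.whiskerRight (secRes h hr) (ModuleCat.extendScalars.{u, u, u} φ) ≫ mu g hV hρV := by
  ext M : 2
  let adj := ModuleCat.extendRestrictScalarsAdj.{u, u, u} φ
  change (adj.homEquiv _ _).symm (nu g hU hρU M) ≫ _ =
    (ModuleCat.extendScalars.{u, u, u} φ).map ((secRes h hr).app M) ≫ (adj.homEquiv _ _).symm (nu g hV hρV M)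
  refine ((adj.homEquiv_naturality_right_symm _ _).symm.trans ?_).trans (adj.homEquiv_naturality_left_symm _ _)
  refine congrArg (adj.homEquiv _ _).symm (ModuleCat.hom_ext (LinearMap.ext fun m => ?_))
  let η := (Scheme.Modules.pullbackPushforwardAdjunction g).unit.app M
  have h1 : η.app V (QC.res M h (show Γ(M, U) from m)) = QC.res _ (g.preimage_mono h) (η.app U (show Γ(M, U) from m)) :=
    (QC.app_res η h (show Γ(M, U) from m)).symm
  refine Eq.trans ?_ (congrArg (QC.res ((Scheme.Modules.pullback g).obj M) hV) h1).symm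
  exact (QC.res_res _ h' hU _).trans (QC.res_res _ hV (g.preimage_mono h) _).symm

section Sum

variable {M : Type*} [Category M] [Abelian M] {D : Type*} [Category D] [Abelian D]

lemma additive_biprod (F₁ F₂ : M ⥤ D) [F₁.Additive] [F₂.Additive] : (F₁ ⊞ F₂).Additive :=
  additive_of_sum biprod.fst biprod.snd biprod.inl biprod.inr biprod.total

end Sum

section Mid

variable {M : Type*} [Category M] [Abelian M] {N : Type*} [Category N] [Abelian N]
  {C : Type*} [Category C] [Abelian C] {D : Type*} [Category D] [Abelian D]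
  {F₀ F₁ F₂ F₃ : M ⥤ C} (E : C ⥤ D) [E.Additive] (P : M ⥤ N) {G₀ G₁ G₂ G₃ : N ⥤ D}
  (μ₀ : F₀ ⋙ E ⟶ P ⋙ G₀) (μ₁ : F₁ ⋙ E ⟶ P ⋙ G₁) (μ₂ : F₂ ⋙ E ⟶ P ⋙ G₂) (μ₃ : F₃ ⋙ E ⟶ P ⋙ G₃)

@[reassoc (attr := simp)]
lemma bp_if {K : Type*} [Category K] {L : Type*} [Category L] [Abelian L] (A₁ A₂ : K ⥤ L) (x : K) :
    (biprod.inl : A₁ ⟶ A₁ ⊞ A₂).app x ≫ (biprod.fst : A₁ ⊞ A₂ ⟶ A₁).app x = 𝟙 _ :=
  congr_app (biprod.inl_fst (X := A₁) (Y := A₂)) x

@[reassoc (attr := simp)]
lemma bp_rf {K : Type*} [Category K] {L : Type*} [Category L] [Abelian L] (A₁ A₂ : K ⥤ L) (x : K) :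
    (biprod.inr : A₂ ⟶ A₁ ⊞ A₂).app x ≫ (biprod.fst : A₁ ⊞ A₂ ⟶ A₁).app x = 0 :=
  congr_app (biprod.inr_fst (X := A₁) (Y := A₂)) x

@[reassoc (attr := simp)]
lemma bp_is {K : Type*} [Category K] {L : Type*} [Category L] [Abelian L] (A₁ A₂ : K ⥤ L) (x : K) :
    (biprod.inl : A₁ ⟶ A₁ ⊞ A₂).app x ≫ (biprod.snd : A₁ ⊞ A₂ ⟶ A₂).app x = 0 :=
  congr_app (biprod.inl_snd (X := A₁) (Y := A₂)) x

@[reassoc (attr := simp)]
lemma bp_rs {K : Type*} [Category K] {L : Type*} [Category L] [Abelian L] (A₁ A₂ : K ⥤ L) (x : K) :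
    (biprod.inr : A₂ ⟶ A₁ ⊞ A₂).app x ≫ (biprod.snd : A₁ ⊞ A₂ ⟶ A₂).app x = 𝟙 _ :=
  congr_app (biprod.inr_snd (X := A₁) (Y := A₂)) x

/-- the comparison map of sums -/
noncomputable def mid : (F₁ ⊞ F₂) ⋙ E ⟶ P ⋙ (G₁ ⊞ G₂) :=
  Functor.whiskerRight biprod.fst E ≫ μ₁ ≫ Functor.whiskerLeft P biprod.inl +
    Functor.whiskerRight biprod.snd E ≫ μ₂ ≫ Functor.whiskerLeft P biprod.inr

lemma mid_fst : mid E P μ₁ μ₂ ≫ Functor.whiskerLeft P biprod.fst = Functor.whiskerRight biprod.fst E ≫ μ₁ := by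
  ext x
  simp [mid]

lemma mid_snd : mid E P μ₁ μ₂ ≫ Functor.whiskerLeft P biprod.snd = Functor.whiskerRight biprod.snd E ≫ μ₂ := by
  ext x
  simp [mid]

lemma inl_mid : μ₁ ≫ Functor.whiskerLeft P biprod.inl = Functor.whiskerRight biprod.inl E ≫ mid E P μ₁ μ₂ := by
  ext x
  simp [mid, ← Functor.map_comp_assoc]

lemma inr_mid : μ₂ ≫ Functor.whiskerLeft P biprod.inr = Functor.whiskerRight biprod.inr E ≫ mid E P μ₁ μ₂ := by
  ext x
  simp [mid, ← Functor.map_comp_assoc]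

lemma total_mid : Functor.whiskerRight (biprod.fst : F₁ ⊞ F₂ ⟶ F₁) E ≫ Functor.whiskerRight biprod.inl E +
    Functor.whiskerRight biprod.snd E ≫ Functor.whiskerRight biprod.inr E = 𝟙 ((F₁ ⊞ F₂) ⋙ E) := by
  ext x
  simp only [NatTrans.app_add, NatTrans.comp_app, Functor.whiskerRight_app, NatTrans.id_app, ← Functor.map_comp, ← Functor.map_add]
  exact (congrArg E.map (congr_app (biprod.total (X := F₁) (Y := F₂)) x)).trans (E.map_id _)

lemma lift_mid (a : F₀ ⟶ F₁) (b : F₀ ⟶ F₂) (a' : G₀ ⟶ G₁) (b' : G₀ ⟶ G₂)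
    (ha : μ₀ ≫ Functor.whiskerLeft P a' = Functor.whiskerRight a E ≫ μ₁)
    (hb : μ₀ ≫ Functor.whiskerLeft P b' = Functor.whiskerRight b E ≫ μ₂) :
    μ₀ ≫ Functor.whiskerLeft P (biprod.lift a' b') = Functor.whiskerRight (biprod.lift a b) E ≫ mid E P μ₁ μ₂ := by
  ext x
  have h1 := congr_app ha x
  have h2 := congr_app hb x
  simp only [NatTrans.comp_app, Functor.whiskerLeft_app, Functor.whiskerRight_app] at h1 h2
  simp [mid, biprod.lift_eq, ← Functor.map_comp_assoc, reassoc_of% h1, reassoc_of% h2]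

lemma desc_mid (a : F₁ ⟶ F₃) (b : F₂ ⟶ F₃) (a' : G₁ ⟶ G₃) (b' : G₂ ⟶ G₃)
    (ha : μ₁ ≫ Functor.whiskerLeft P a' = Functor.whiskerRight a E ≫ μ₃)
    (hb : μ₂ ≫ Functor.whiskerLeft P b' = Functor.whiskerRight b E ≫ μ₃) :
    mid E P μ₁ μ₂ ≫ Functor.whiskerLeft P (biprod.desc a' b') = Functor.whiskerRight (biprod.desc a b) E ≫ μ₃ := by
  ext x
  have h1 := congr_app ha x
  have h2 := congr_app hb x
  simp only [NatTrans.comp_app, Functor.whiskerLeft_app, Functor.whiskerRight_app] at h1 h2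
  simp [mid, biprod.desc_eq, h1, h2]

end Mid

section Square

variable {U V P T : X.Opens} (hU : U ≤ T) (hV : V ≤ T) (hPU : P ≤ U) (hPV : P ≤ V)
  {ρT : A →+* Γ(X, T)} {ρU : A →+* Γ(X, U)} {ρV : A →+* Γ(X, V)} {ρP : A →+* Γ(X, P)}
  (eU : (X.presheaf.map (homOfLE hU).op).hom.comp ρT = ρU) (eV : (X.presheaf.map (homOfLE hV).op).hom.comp ρT = ρV)
  (ePU : (X.presheaf.map (homOfLE hPU).op).hom.comp ρU = ρP) (ePV : (X.presheaf.map (homOfLE hPV).op).hom.comp ρV = ρP)

/-- sections on a union, on the pieces, on the intersection -/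
noncomputable def mvF : ShortComplex (X.Modules ⥤ ModuleCat.{u} A) :=
  ShortComplex.mk (biprod.lift (secRes hU eU) (secRes hV eV)) (biprod.desc (secRes hPU ePU) (-secRes hPV ePV)) (by
    rw [biprod.lift_desc, Preadditive.comp_neg, ← sub_eq_add_neg, sub_eq_zero]
    ext M m
    exact (QC.res_res M hPU hU (show Γ(M, T) from m)).trans (QC.res_res M hPV hV (show Γ(M, T) from m)).symm)

variable {hU hV hPU hPV eU eV ePU ePV}

/-- the sections sequence of a flasque module is short exact -/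
theorem mvF_shortExact (hT : T ≤ U ⊔ V) (hP : U ⊓ V ≤ P) (M : X.Modules) (hM : RPushQC.IsFlasque M) :
    ((mvF hU hV hPU hPV eU eV ePU ePV).map ((evaluation X.Modules (ModuleCat.{u} A)).obj M)).ShortExact := by
  let S := (mvF hU hV hPU hPV eU eV ePU ePV).map ((evaluation X.Modules (ModuleCat.{u} A)).obj M)
  let p := (biprod.fst : secF U ρU ⊞ secF V ρV ⟶ secF U ρU).app M
  let q := (biprod.snd : secF U ρU ⊞ secF V ρV ⟶ secF V ρV).app M
  let i := (biprod.inl : secF U ρU ⟶ secF U ρU ⊞ secF V ρV).app M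
  let j := (biprod.inr : secF V ρV ⟶ secF U ρU ⊞ secF V ρV).app M
  have htot : ∀ x, i (p x) + j (q x) = x := fun x =>
    ConcreteCategory.congr_hom (congr_app (biprod.total (X := secF U ρU) (Y := secF V ρV)) M) x
  have hfp : ∀ t : Γ(M, T), p (S.f t) = QC.res M hU t := fun t =>
    ConcreteCategory.congr_hom (congr_app (biprod.lift_fst (secRes hU eU) (secRes hV eV)) M) t
  have hfq : ∀ t : Γ(M, T), q (S.f t) = QC.res M hV t := fun t =>
    ConcreteCategory.congr_hom (congr_app (biprod.lift_snd (secRes hU eU) (secRes hV eV)) M) t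
  have hgi : ∀ a : Γ(M, U), S.g (i a) = QC.res M hPU a := fun a =>
    ConcreteCategory.congr_hom (congr_app (biprod.inl_desc (secRes hPU ePU) (-secRes hPV ePV)) M) a
  have hgj : ∀ b : Γ(M, V), S.g (j b) = -QC.res M hPV b := fun b =>
    ConcreteCategory.congr_hom (congr_app (biprod.inr_desc (secRes hPU ePU) (-secRes hPV ePV)) M) b
  refine { exact := ?_, mono_f := ?_, epi_g := ?_ }
  · rw [ShortComplex.moduleCat_exact_iff]
    intro x hx
    have h1 : QC.res M hPU (p x) = QC.res M hPV (q x) := by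
      rw [← htot x, map_add] at hx
      exact sub_eq_zero.1 ((sub_eq_add_neg _ _).trans (((congrArg₂ (· + ·) (hgi (p x)) (hgj (q x))).symm).trans hx))
    obtain ⟨t, ht1, ht2⟩ := RPushQC.glue M hU hV hPU hPV hT hP (p x) (q x) h1
    refine ⟨t, (htot _).symm.trans (((congrArg₂ (fun a b => i a + j b) ((hfp t).trans ht1) ((hfq t).trans ht2))).trans (htot x))⟩
  · rw [ModuleCat.mono_iff_injective]
    intro a b hab
    refine QC.section_eq_of_locally (U := T) fun x hx => ?_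
    rcases hT hx with h | h
    · exact ⟨U, hU, h, (hfp a).symm.trans ((congrArg p hab).trans (hfp b))⟩
    · exact ⟨V, hV, h, (hfq a).symm.trans ((congrArg q hab).trans (hfq b))⟩
  · rw [ModuleCat.epi_iff_surjective]
    intro c
    obtain ⟨a, ha⟩ := hM hPU (show Γ(M, P) from c)
    exact ⟨i a, (hgi a).trans ha⟩

end Square

end Groth.Agent.FlatBCD
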